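import Cfsg.Agent.FusionBiset.Transfer
import Cfsg.Agent.LocalP.Yoshida

/-!
# The stabilizer of the base right orbit of a characteristic biset
-/

set_option autoImplicit false
set_option linter.all false

open Cfsg Cfsg.FusionSystem Cfsg.Agent.FusionSys Cfsg.Agent.FusionBiset
open Cfsg.Agent.LocalP.Yoshida (cval)

namespace Cfsg.Agent.FusionQd

universe u

variable {Ω : Type u} [Group Ω] {S : Subgroup Ω} [Finite S] {F : FusionSystem S}
  {c : Subgroup (S × S) → ℕ}

/-- The stabilizer of the right orbit of the base point. -/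
def baseStab (c : Subgroup (S × S) → ℕ) (hd : c (diag S) ≠ 0) : Subgroup (parkGroup c) :=
  MulAction.stabilizer (parkGroup c) (rmk c (basePt c hd))

theorem exists_right {hd : c (diag S) ≠ 0} (h : baseStab c hd) :
    ∃ s : S, ((1 : S), s) • basePt c hd = ((h : parkGroup c) : Equiv.Perm (Space c)) (basePt c hd) :=
  (rmk_eq_iff c).1 (MulAction.mem_stabilizer_iff.1 h.2)

/-- Evaluation on the base point. -/
noncomputable def rightVal (hc : Supp F c) (hd : c (diag S) ≠ 0) : baseStab c hd →* S where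
  toFun h := (exists_right h).choose⁻¹
  map_one' := by
    have := right_free hc (exists_right (1 : baseStab c hd)).choose_spec
    rw [this, inv_one]
  map_mul' a b := by
    rw [← mul_inv_rev]
    refine congrArg (·⁻¹) (right_cancel hc (y := basePt c hd) ((exists_right (a * b)).choose_spec.trans ?_))
    show ((a : parkGroup c) : Equiv.Perm (Space c))
      (((b : parkGroup c) : Equiv.Perm (Space c)) (basePt c hd)) = _
    obtain ⟨sb, hsb⟩ : ∃ s : S, s = (exists_right b).choose := ⟨_, rfl⟩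
    obtain ⟨sa, hsa⟩ : ∃ s : S, s = (exists_right a).choose := ⟨_, rfl⟩
    have e1 := hsb ▸ (exists_right b).choose_spec
    have e2 := hsa ▸ (exists_right a).choose_spec
    rw [← hsa, ← hsb]
    refine (congrArg ((a : parkGroup c) : Equiv.Perm (Space c)) e1.symm).trans ?_
    rw [(a : parkGroup c).2, ← e2, smul_smul, Prod.mk_mul_mk, one_mul]

theorem rightVal_spec (hc : Supp F c) (hd : c (diag S) ≠ 0) (h : baseStab c hd) :
    ((1 : S), (rightVal hc hd h)⁻¹) • basePt c hd =
      ((h : parkGroup c) : Equiv.Perm (Space c)) (basePt c hd) := by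
  show ((1 : S), ((exists_right h).choose⁻¹)⁻¹) • _ = _
  rw [inv_inv]
  exact (exists_right h).choose_spec

theorem parkHom_mem (hd : c (diag S) ≠ 0) (s : S) : parkHom c s ∈ baseStab c hd := by
  refine MulAction.mem_stabilizer_iff.2 ((rmk_eq_iff c).2 ⟨s⁻¹, ?_⟩)
  show ((1 : S), s⁻¹) • basePt c hd = ((s, (1 : S)) : S × S) • basePt c hd
  have h : ((s, s) : S × S) • basePt c hd = basePt c hd := by
    rw [← MulAction.mem_stabilizer_iff, stabilizer_basePt, mem_diag]
  conv_lhs => rw [← h, smul_smul]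
  simp

/-- The point belonging to an element of the group. -/
def pointOf (c : Subgroup (S × S) → ℕ) (hd : c (diag S) ≠ 0) (k : parkGroup c) : Space c :=
  (k : Equiv.Perm (Space c)) (basePt c hd)

/-- An element conjugated into the base stabilizer gives a twisted fixed point. -/
theorem stab_of_mem (hc : Supp F c) (hd : c (diag S) ≠ 0) (k : parkGroup c) (w : S)
    (hm : k⁻¹ * (parkHom c w * k) ∈ baseStab c hd) :
    ((w, rightVal hc hd ⟨_, hm⟩) : S × S) • pointOf c hd k = pointOf c hd k := by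
  have h := congrArg (k : Equiv.Perm (Space c)) (rightVal_spec hc hd ⟨_, hm⟩)
  rw [k.2] at h
  simp only [Subgroup.coe_mul, InvMemClass.coe_inv, Equiv.Perm.mul_apply, Equiv.Perm.coe_inv,
    Equiv.apply_symm_apply, parkHom_apply] at h
  have h2 := congrArg (fun z => ((1 : S), rightVal hc hd ⟨_, hm⟩) • z) h
  simp only [smul_smul, Prod.mk_mul_mk, one_mul, mul_one, mul_inv_cancel, ← Prod.one_eq_mk,
    one_smul] at h2
  exact h2.symm

theorem isTw_stabilizer (hc : Supp F c) (y : Space c) :
    IsTw F (MulAction.stabilizer (S × S) y) := by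
  refine isTw_of_mark_ne_zero hc ?_
  rw [← fixNum_space]
  haveI : Nonempty {a : Space c // MulAction.stabilizer (S × S) y ≤
      MulAction.stabilizer (S × S) a} := ⟨⟨y, le_rfl⟩⟩
  exact Nat.card_pos.ne'

/-- The value at a conjugate is a conjugate in the system. -/
theorem rightVal_conj (hc : Supp F c) (hd : c (diag S) ≠ 0) (k : parkGroup c) (w : S)
    (hm : k⁻¹ * (parkHom c w * k) ∈ baseStab c hd) :
    ∃ (P : Subgroup Ω) (ψ : P →* Ω) (_ : ψ ∈ F.Hom P) (x : P),
      (x : Ω) = rightVal hc hd ⟨_, hm⟩ ∧ ψ x = w := by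
  obtain ⟨P, ψ, hψ, he⟩ := isTw_stabilizer hc (pointOf c hd k)
  obtain ⟨x, h1, h2⟩ := mem_twd.1 (he ▸ MulAction.mem_stabilizer_iff.2 (stab_of_mem hc hd k w hm))
  exact ⟨P, ψ, hψ, x, h2, h1⟩

theorem orderOf_rightVal (hc : Supp F c) (hd : c (diag S) ≠ 0) (k : parkGroup c) (w : S)
    (hm : k⁻¹ * (parkHom c w * k) ∈ baseStab c hd) :
    orderOf (rightVal hc hd ⟨_, hm⟩) = orderOf w := by
  obtain ⟨P, ψ, hψ, x, hx, hw⟩ := rightVal_conj hc hd k w hm
  rw [← Subgroup.orderOf_coe (rightVal hc hd ⟨_, hm⟩), ← hx, Subgroup.orderOf_coe,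
    ← orderOf_injective ψ (F.injective_of_mem hψ) x, hw, Subgroup.orderOf_coe]

theorem rightVal_parkHom (hc : Supp F c) (hd : c (diag S) ≠ 0) (s : S) :
    rightVal hc hd ⟨parkHom c s, parkHom_mem hd s⟩ = s := by
  have h := rightVal_spec hc hd ⟨parkHom c s, parkHom_mem hd s⟩
  have h0 : ((s, s) : S × S) • basePt c hd = basePt c hd := by
    rw [← MulAction.mem_stabilizer_iff, stabilizer_basePt, mem_diag]
  have h1 : ((1 : S), (rightVal hc hd ⟨parkHom c s, parkHom_mem hd s⟩)⁻¹) • basePt c hd =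
      ((1 : S), s⁻¹) • basePt c hd := by
    rw [h, parkHom_apply]
    conv_rhs => rw [← h0, smul_smul]
    simp
  exact inv_injective (right_cancel hc h1)

/-- The number of cosets is prime to `p`. -/
theorem index_coprime {p : ℕ} (hc : Supp F c) (hd : c (diag S) ≠ 0)
    (hn : ¬ p * Nat.card S ∣ Nat.card (Space c)) : ¬ p ∣ (baseStab c hd).index := by
  haveI := rightOrbits_pretransitive hc
  rw [baseStab, MulAction.index_stabilizer_of_transitive]
  intro h
  apply hn
  rw [card_rightOrbits hc]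
  exact mul_dvd_mul_right h _

/-- The transfer of a homomorphism to an abelian group is constant on conjugate elements. -/
theorem transfer_kills_focal {A : Type*} [CommGroup A] (hc : Supp F c) (hd : c (diag S) ≠ 0)
    (hst : Stable F c 0) (θ : baseStab c hd →* A) :
    ∀ s : S, (s : Ω) ∈ F.focalSubgroup → (MonoidHom.transfer θ) (parkHom c s) = 1 := by
  intro s hs
  suffices hle : F.focalSubgroup ≤ (((MonoidHom.transfer θ).comp (parkHom c)).ker).map S.subtype by
    obtain ⟨w, hw, hwe⟩ := hle hs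
    rw [← show w = s from Subtype.ext hwe]
    exact hw
  refine (Subgroup.closure_le _).2 ?_
  rintro _ ⟨P, φ, x, hφ, rfl⟩
  refine ⟨(⟨x, le_S F hφ x.2⟩ : S)⁻¹ * ⟨φ x, map_mem_S F hφ x⟩, ?_, rfl⟩
  obtain ⟨g, hg⟩ := exists_park_conj hc hst hφ
  rw [SetLike.mem_coe, MonoidHom.mem_ker, map_mul, map_inv]
  simp only [MonoidHom.comp_apply, hg x, map_mul, map_inv]
  rw [mul_comm ((MonoidHom.transfer θ) g), mul_assoc, mul_inv_cancel, mul_one, inv_mul_cancel]

/-- Fixed cosets. -/
theorem fixed_iff {hd : c (diag S) ≠ 0} {g : parkGroup c} {q : parkGroup c ⧸ baseStab c hd} :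
    g • q = q ↔ q.out⁻¹ * (g * q.out) ∈ baseStab c hd := by
  constructor
  · intro h
    exact QuotientGroup.eq.1 (by rw [QuotientGroup.out_eq', ← smul_eq_mul, MulAction.Quotient.coe_smul_out, h])
  · intro h
    conv_lhs => rw [← QuotientGroup.out_eq' q]
    conv_rhs => rw [← QuotientGroup.out_eq' q]
    exact (QuotientGroup.eq.2 h).symm

theorem rmk_pointOf_eq {hd : c (diag S) ≠ 0} {k l : parkGroup c}
    (h : rmk c (pointOf c hd k) = rmk c (pointOf c hd l)) :
    (k : parkGroup c ⧸ baseStab c hd) = l := by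
  refine QuotientGroup.eq.2 (MulAction.mem_stabilizer_iff.2 ?_)
  rw [mul_smul, inv_smul_eq_iff, smul_rmk, smul_rmk]
  exact h.symm

theorem exists_pointOf (hc : Supp F c) (hd : c (diag S) ≠ 0) (y : Space c) :
    ∃ q : parkGroup c ⧸ baseStab c hd, ∃ u : S, ((1 : S), u) • pointOf c hd q.out = y := by
  haveI := rightOrbits_pretransitive hc
  obtain ⟨g, hg⟩ := MulAction.exists_smul_eq (parkGroup c) (rmk c (basePt c hd)) (rmk c y)
  refine ⟨(g : parkGroup c ⧸ baseStab c hd), (rmk_eq_iff c).1 ?_⟩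
  rw [← hg]
  show _ = rmk c (pointOf c hd _)
  have hmem : g⁻¹ * (g : parkGroup c ⧸ baseStab c hd).out ∈ baseStab c hd :=
    QuotientGroup.eq.1 (QuotientGroup.out_eq' _).symm
  have h := MulAction.mem_stabilizer_iff.1 hmem
  rw [mul_smul, inv_smul_eq_iff, smul_rmk, smul_rmk] at h
  exact (smul_rmk c g _).trans h.symm

end Cfsg.Agent.FusionQd
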