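import Cfsg.Agent.FusionModel.LocalModel
import Cfsg.Agent.FusionBatch.Basic
import Cfsg.Agent.FusionAlperin.NormalCriteria

/-!
# Control of the centre with local hypotheses on the models
-/

set_option autoImplicit false
set_option linter.all false

open Cfsg Cfsg.FusionSystem Cfsg.Agent.FusionSys Cfsg.Agent.FusionModel

namespace Cfsg.Agent.FusionQd

universe u w

variable {Ω : Type u} [Group Ω] {S : Subgroup Ω}

/-- The chain argument, keeping a normal subgroup inside the normalizers. -/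
theorem chain_claim {p : ℕ} [Fact p.Prime] [Finite S] (hS : IsPGroup p S) {F : FusionSystem S}
    (hF : F.IsSaturated p) {W : ∀ (Q : Type u) [Group Q], Subgroup Q} (hW : Natural W p)
    {good : ∀ P : Subgroup Ω, (P →* Ω) → Prop} (hg : IsClosedProp F good)
    (Pr : Subgroup Ω → Prop) {B : Subgroup Ω} (hB : F.IsNormal B)
    (hWS : ∀ (P : Subgroup Ω) (φ : P →* Ω), φ ∈ F.normalizerHom (wOf W S) P → good P φ)
    {c : ℕ} (hc : 1 ≤ c)
    (big : ∀ (N : Subgroup Ω) (θ : N →* Ω), θ ∈ F.Hom N → c < Nat.card N → good N θ)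
    (hPrW : ∀ V ≤ S, 1 < Nat.card (normalizerIn S V) → Pr (wOf W (normalizerIn S V)))
    (hPrmap : ∀ (N : Subgroup Ω) (θ : N →* Ω), θ ∈ F.Hom N → good N θ → ∀ U ≤ N, Pr U →
      Pr ((U.subgroupOf N).map θ))
    (hno : ∀ U, F.IsNormal U → ¬ Pr U)
    (hsub : ∀ V (hV : F.IsFullyNormalized V), ¬ F.IsNormal V → B ≤ normalizerIn S V →
      (∀ (P : Subgroup Ω) (φ : P →* Ω),
        φ ∈ (FusionAux.normSys F V hV.1).normalizerHom (wOf W (normalizerIn S V)) P → good P φ) →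
      ∀ (P : Subgroup Ω) (φ : P →* Ω), φ ∈ F.normalizerHom V P → good P φ) :
    ∀ (k : ℕ) (V : Subgroup Ω) (hV : F.IsFullyNormalized V), ¬ F.IsNormal V →
      B ≤ normalizerIn S V → c < Nat.card (normalizerIn S V) →
      Nat.card S - Nat.card (normalizerIn S V) = k →
      ∀ (P : Subgroup Ω) (φ : P →* Ω), φ ∈ F.normalizerHom V P → good P φ := by
  intro k
  induction k using Nat.strong_induction_on with
  | _ k ih =>
  intro V hV hnV hBV hlt hk
  refine hsub V hV hnV hBV fun P φ hφ => ?_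
  set T := normalizerIn S V with hT
  have hTS : T ≤ S := normalizerIn_le V
  set U := wOf W T with hU
  obtain ⟨hφN, hPT, hφT, ψ, hψN, hψφ, hψU⟩ := hφ
  have hψ : ψ ∈ F.Hom (P ⊔ U) := hψN.1
  by_cases hTeq : T = S
  · refine hWS _ _ ?_
    have hUS : wOf W S = U := by rw [hU, hTeq]
    have hle := normalizerIn_wOf (S := S) hW hS
    rw [hUS] at hle ⊢
    exact ⟨hφN.1, hle.symm ▸ le_S F hφN.1, fun x => hle.symm ▸ map_mem_S F hφN.1 x, ψ, hψ,
      hψφ, hψU⟩
  set M := normalizerIn S U with hM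
  have hUS : U ≤ S := (wOf_le T).trans hTS
  have hTM : T < M := (FusionAux.lt_normalizerIn hS hTS hTeq).trans_le
    (le_inf (normalizerIn_le T) (normalizerIn_le_normalizer_wOf hW hS hTS))
  have hcM : Nat.card T < Nat.card M := FusionAux.card_lt_card_of_lt (normalizerIn_le U) hTM
  obtain ⟨U', hUU', hU'⟩ := exists_fullyNormalized F hUS
  obtain ⟨θ, hθ, hθN, hθU⟩ := exists_normalizer_map_fullyNormalized hS hF hU' hUU'
  have hθg : good M θ := big M θ hθ (hlt.trans hcM)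
  have hUM : U ≤ M := le_normalizerIn hUS
  have h1 : 1 < Nat.card T := lt_of_le_of_lt
    hc hlt
  have hnU' : ¬ F.IsNormal U' := fun hn =>
    hno U' hn (hθU ▸ hPrmap M θ hθ hθg U hUM (hPrW V hV.1 h1))
  have hcU' : Nat.card M ≤ Nat.card (normalizerIn S U') := hU'.2 U (isConj_symm hUU')
  have hcS : Nat.card (normalizerIn S U') ≤ Nat.card S :=
    Subgroup.card_le_of_le (normalizerIn_le _)
  have hBU' : B ≤ normalizerIn S U' := fun y hy => by
    obtain ⟨x, -, hx⟩ := FusionAux.sc_exists_preimage (FusionAlperin.isNormal_stronglyClosed hB) hθ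
      (hBV.trans hTM.le) hy
    rw [← hx]
    exact hθN x
  have hgU' := ih _ (by omega) U' hU' hnU' hBU' (by omega) rfl
  -- transport along `θ`
  have hPU : P ⊔ U ≤ M :=
    sup_le (fun x hx => ⟨le_S F hφN.1 hx, (hPT hx).2⟩) hUM
  have hψM : ∀ x, ψ x ∈ M := fun x => by
    have h := FusionAux.ext_image_le (R := M) hψU
      (fun y => by rw [hψφ]; exact ⟨map_mem_S F hφN.1 y, (hφT y).2⟩) x
    rwa [sup_eq_left.2 hUM] at h
  have hres := restr_mem F hPU hθ
  set A := (restr hPU θ).range with hA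
  have hU'A : U' ≤ A := by
    rw [← hθU, hA]
    intro y hy
    obtain ⟨x, hx, rfl⟩ := (mem_map_subgroupOf θ).1 hy
    exact ⟨⟨x, Subgroup.mem_sup_right hx⟩, rfl⟩
  obtain ⟨θinv, hθinv, hθinve⟩ := F.inv_mem hres
  have hθinvmem : ∀ y, θinv y ∈ P ⊔ U := by
    rintro ⟨_, x, rfl⟩
    rw [hθinve]
    exact x.2
  have hm1 := F.comp_mem hθinv hψ hθinvmem
  have hm2 := F.comp_mem hm1 hθ fun y => hψM _
  set χ := θ.comp ((ψ.comp (θinv.codRestrict (P ⊔ U) hθinvmem)).codRestrict M fun y => hψM _)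
    with hχ
  have hχe : ∀ x, χ ⟨restr hPU θ x, ⟨x, rfl⟩⟩ = θ ⟨ψ x, hψM x⟩ := fun x =>
    congrArg θ (Subtype.ext (congrArg ψ (Subtype.ext (hθinve x))))
  have hχN : χ ∈ F.normalizerHom U' A := by
    have hle : A ⊔ U' ≤ A := sup_le le_rfl hU'A
    refine ⟨hm2, ?_, fun y => hθN _, restr hle χ, restr_mem F hle hm2, fun _ => rfl, ?_⟩
    · rintro _ ⟨x, rfl⟩
      exact hθN _
    refine le_antisymm ?_ (fun y hy => ?_)
    · intro y hy
      obtain ⟨⟨z, hz⟩, hzU, rfl⟩ := (mem_map_subgroupOf _).1 hy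
      obtain ⟨x, hx, hxz⟩ := (mem_map_subgroupOf θ).1 (hθU.ge hzU)
      have hxPU : (x : Ω) ∈ P ⊔ U := Subgroup.mem_sup_right hx
      have e := hχe ⟨x, hxPU⟩
      rw [restr_apply, show Subgroup.inclusion hle ⟨z, hz⟩ =
        ⟨restr hPU θ ⟨x, hxPU⟩, ⟨_, rfl⟩⟩ from Subtype.ext hxz.symm, e, ← hθU]
      exact (mem_map_subgroupOf θ).2 ⟨_, FusionAux.apply_mem_of_map_eq hψU hx, rfl⟩
    · obtain ⟨w, hw, rfl⟩ := (mem_map_subgroupOf θ).1 (hθU.ge hy)
      obtain ⟨x, hx, hxw⟩ := FusionAux.exists_of_map_eq hψU hw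
      refine (mem_map_subgroupOf _).2 ⟨⟨restr hPU θ x, Subgroup.mem_sup_left ⟨x, rfl⟩⟩,
        hθU.le ((mem_map_subgroupOf θ).2 ⟨_, hx, rfl⟩), ?_⟩
      exact (hχe x).trans (congrArg θ (Subtype.ext hxw))
  have hχg := hgU' A χ hχN
  obtain ⟨θ', hθ', hθ'e⟩ := F.inv_mem hθ
  have hθ'g := hg.inv hθ hθ' hθg hθ'e
  have hgres : good _ (restr hPU θ) := hg.restr hθg hPU fun _ => rfl
  let c1 := χ.comp (restr hPU θ).rangeRestrict
  have hc1m : c1 ∈ F.Hom (P ⊔ U) :=
    comp_mem' F hres hm2 (fun x => ⟨x, rfl⟩) fun _ => rfl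
  have hc1 : good (P ⊔ U) c1 := hg.comp hres hm2 hgres hχg (fun x => ⟨x, rfl⟩) fun _ => rfl
  have hc1r : ∀ x, c1 x ∈ θ.range := fun x => ⟨⟨ψ x, hψM x⟩, (hχe x).symm⟩
  have hψg : good (P ⊔ U) ψ := hg.comp hc1m hθ' hc1 hθ'g hc1r fun x => by
    rw [show (⟨c1 x, hc1r x⟩ : θ.range) = ⟨θ ⟨ψ x, hψM x⟩, ⟨_, rfl⟩⟩ from Subtype.ext (hχe x),
      hθ'e]
  exact hg.restr hψg le_sup_left fun x => (hψφ x).symm

/-- The condition in finite groups: an element of `O_p` centralized by `N(W(P))` is central. -/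
def LocalCond (W : ∀ (Q : Type u) [Group Q], Subgroup Q) (H : Type w) [Group H] (p : ℕ)
    (root : Prop) : Prop :=
  ∀ (L : Type u) [Group L] [Finite L] (P : Sylow p L) (x : L), x ∈ pCore p L →
    (root → ∃ w ∈ (P : Subgroup L), (∀ y ∈ (P : Subgroup L), y * w = w * y) ∧ w ^ p = x) →
    ¬ Involves H L →
    (∀ n ∈ Subgroup.normalizer (((W ↥(P : Subgroup L)).map (P : Subgroup L).subtype :
      Subgroup L) : Set L), n * x = x * n) →
    ∀ g : L, g * x * g⁻¹ = x

variable {W : ∀ (Q : Type u) [Group Q], Subgroup Q} {p : ℕ} {H : Type w} [Group H] {root : Prop}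

/-- Automorphisms of the largest normal subgroup fix `z` when it is centric. -/
lemma fix_of_data [Finite S] [Fact p.Prime] (hW : Natural W p) (hS : IsPGroup p S)
    (hC : LocalCond W H p root) {F : FusionSystem S} {R : Subgroup Ω} (hRS : R ≤ S)
    (hRn : normalizerIn S R = S) (hdata : LocalData H p F R) {z : Ω} (hzR : z ∈ R)
    (hzW : z ∈ wOf W S)
    (hroot : root → ∃ w ∈ S, (∀ y ∈ S, y * w = w * y) ∧ w ^ p = z)
    (hH : ∀ (P : Subgroup Ω) (φ : P →* Ω), φ ∈ F.normalizerHom (wOf W S) P → FixesElt z P φ) :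
    ∀ α ∈ F.autGroup R, ((α ⟨z, hzR⟩ : R) : Ω) = z := by
  unfold LocalData at hdata
  set T := normalizerIn S R with hT
  obtain ⟨L, hL, hfin, j, hj, ⟨P, hP⟩, hjn, -, hni, haut, hhom⟩ := hdata
  intro α hα
  have hzT : z ∈ T := hRn.ge (hRS hzR)
  have hWT : wOf W S ≤ T := (wOf_le S).trans hRn.ge
  have hRT : R ≤ T := hRS.trans hRn.ge
  have hWL : (W ↥(P : Subgroup L)).map (P : Subgroup L).subtype =
      ((wOf W S).subgroupOf T).map j := by
    rw [show wOf W S = wOf W T by rw [hRn], wOf_map hW (hS.to_le (normalizerIn_le R)) hj, ← hP]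
    rfl
  have hx : ∀ g : L, g * j ⟨z, hzT⟩ * g⁻¹ = j ⟨z, hzT⟩ := by
    refine hC L P _ (Cfsg.Agent.Cores.le_pCore hjn (P.2.to_le ((Subgroup.map_le_range _ _).trans hP.ge))
      ⟨⟨z, hzT⟩, hzR, rfl⟩) (fun hr => ?_) hni fun n hn => ?_
    · obtain ⟨w, hw, hwc, hwz⟩ := hroot hr
      refine ⟨j ⟨w, hRn.ge hw⟩, hP.ge ⟨_, rfl⟩, fun y hy => ?_, ?_⟩
      · obtain ⟨t, rfl⟩ := hP.le hy
        rw [← map_mul, ← map_mul]
        exact congrArg j (Subtype.ext (hwc t (normalizerIn_le R t.2)))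
      · rw [← map_pow]
        exact congrArg j (Subtype.ext hwz)
    · rw [hWL] at hn
      have hin : ∀ x : wOf W S, n * j ⟨x, hWT x.2⟩ * n⁻¹ ∈ j.range := fun x =>
        Subgroup.map_le_range _ _
          ((Subgroup.mem_normalizer_iff.1 hn _).1 ⟨⟨x, hWT x.2⟩, x.2, rfl⟩)
      obtain ⟨φ, hφ, hφe⟩ := exists_conj_map hj hWT n hin
      have hφF : φ ∈ F.Hom (wOf W S) := hhom _ hWT φ hφ n hφe
      have hnh := normalizerHom_of_mapsTo hφF le_rfl (le_normalizer_wOf_self hW hS) fun v _ => by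
        obtain ⟨t, ht, hte⟩ := (Subgroup.mem_normalizer_iff.1 hn (j ⟨v, hWT v.2⟩)).1
          ⟨⟨v, hWT v.2⟩, v.2, rfl⟩
        rw [show φ v = (t : Ω) from congrArg Subtype.val (hj ((hφe v).trans hte.symm))]
        exact ht
      have h1 : φ ⟨z, hzW⟩ = z := hH _ φ hnh ⟨z, hzW⟩ (Or.inl rfl)
      have h2 : j ⟨z, hzT⟩ = n * j ⟨z, hzT⟩ * n⁻¹ :=
        (congrArg j (Subtype.ext h1.symm)).trans (hφe ⟨z, hzW⟩)
      exact (eq_mul_inv_iff_mul_eq.1 h2).symm
  obtain ⟨g, hg⟩ := haut α hα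
  have h := hg ⟨z, hzR⟩ hzT (hRT (α _).2)
  rw [hx g] at h
  exact congrArg Subtype.val (hj h)

/-- Control of the elements of the centre, with local hypotheses. -/
theorem fixes_of_normalizer [Fact p.Prime]
    (hWZ : ∀ (Q : Type u) [Group Q] [Finite Q], IsPGroup p Q → Subgroup.center Q ≤ W Q)
    (hW : Natural W p) (hC : LocalCond W H p root) :
    ∀ (n m : ℕ) {Ω : Type u} [Group Ω] {S : Subgroup Ω} [Finite S], IsPGroup p S →
      ∀ (F : FusionSystem S), F.IsSaturated p → LocallyFree H p F → Nat.card S = n →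
        (morph F).ncard = m →
        ∀ z ∈ S, (root → ∃ w ∈ S, (∀ y ∈ S, y * w = w * y) ∧ w ^ p = z) →
          (∀ (P : Subgroup Ω) (φ : P →* Ω),
            φ ∈ F.normalizerHom (wOf W S) P → FixesElt z P φ) →
          ∀ (P : Subgroup Ω) (φ : P →* Ω), φ ∈ F.Hom P → FixesElt z P φ := by
  intro n
  induction n using Nat.strong_induction_on with
  | _ n IHn =>
  intro m
  induction m using Nat.strong_induction_on with
  | _ m IHm =>
  intro Ω _ S _ hS F hF hloc hn hm z hzS hroot hH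
  have hzc : ∀ g ∈ S, g * z * g⁻¹ = z := fun g hg =>
    hH S _ (mem_normalizerHom_wOf_self hW hS (F.conj_mem le_rfl hg)) ⟨z, hzS⟩ (Or.inl rfl)
  have hzC : ∀ R ≤ S, z ∈ centralizerIn S R := fun R hR =>
    mem_centralizerIn.2 ⟨hzS, fun x hx => eq_mul_inv_iff_mul_eq.1 (hzc x (hR hx)).symm |>.symm ▸ rfl⟩
  have IH : ∀ (V : Subgroup Ω) (hV : F.IsFullyNormalized V), ¬ F.IsNormal V →
      F.core ≤ normalizerIn S V →
      (∀ (P : Subgroup Ω) (φ : P →* Ω),
        φ ∈ (FusionAux.normSys F V hV.1).normalizerHom (wOf W (normalizerIn S V)) P →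
          FixesElt z P φ) →
      ∀ (P : Subgroup Ω) (φ : P →* Ω), φ ∈ F.normalizerHom V P → FixesElt z P φ := by
    intro V hV hnV hB hg
    have hTp : IsPGroup p (normalizerIn S V) := hS.to_le (normalizerIn_le V)
    have hzT : z ∈ normalizerIn S V := centralizerIn_le_normalizerIn V (hzC V hV.1)
    have hl := localData_normSys hS hF hloc hV hB
    have hr : root → ∃ w ∈ normalizerIn S V,
        (∀ y ∈ normalizerIn S V, y * w = w * y) ∧ w ^ p = z := fun hr => by
      obtain ⟨w, hw, hwc, hwz⟩ := hroot hr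
      exact ⟨w, centralizerIn_le_normalizerIn V
        (mem_centralizerIn.2 ⟨hw, fun x hx => hwc x (hV.1 hx)⟩),
        fun y hy => hwc y (normalizerIn_le V hy), hwz⟩
    rcases lt_or_eq_of_le (Subgroup.card_le_of_le (normalizerIn_le (S := S) V)) with h | h
    · exact IHn _ (hn ▸ h) _ hTp _ (normSys_saturated hS hF hV) hl rfl rfl z hzT hr hg
    · exact IHm _ (hm ▸ morph_normSys_lt F hV.1 hnV) hTp _ (normSys_saturated hS hF hV) hl
        (h.trans hn) rfl z hzT hr hg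
  have hzW : ∀ T : Subgroup Ω, T ≤ S → z ∈ T → z ∈ wOf W T := by
    intro T hT hzT
    have : Finite T := finite_of_le ‹_› hT
    refine ⟨⟨z, hzT⟩, hWZ T (hS.to_le hT) (Subgroup.mem_center_iff.2 fun g => Subtype.ext ?_), rfl⟩
    exact (mem_centralizerIn.1 (hzC T hT)).2 g g.2
  have hBn' : F.IsNormal F.core := FusionAlperin.isNormal_core F
  by_cases hzB : z ∈ F.core
  · set U := F.core with hUdef
    have hU := hBn'
    have hUn := FusionAlperin.isNormal_le_normalizer hU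
    suffices haut : ∀ α ∈ F.autGroup U, (α ⟨z, hzB⟩ : Ω) = z by
      intro P φ hφ x hx
      obtain ⟨ψ, hψ, hψe, hψU⟩ := hU.2 P φ hφ
      have hres := restr_mem F (le_sup_right (a := P)) hψ
      have hrng : (restr le_sup_right ψ).range = U := by rw [range_restr]; exact hψU
      have hψz : ψ ⟨z, Subgroup.mem_sup_right hzB⟩ = z := by
        have h := haut _ (toIso_mem_autGroup F hres hrng)
        rw [toIso_coe] at h
        exact h
      rcases hx with hx | hx
      · rw [hx, ← hψe, show Subgroup.inclusion le_sup_left x =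
          (⟨z, Subgroup.mem_sup_right hzB⟩ : ↥(P ⊔ U)) from Subtype.ext hx]
        exact hψz
      · have h1 : ψ (Subgroup.inclusion le_sup_left x) = ψ ⟨z, Subgroup.mem_sup_right hzB⟩ := by
          rw [hψe, hψz, hx]
        have h2 := congrArg Subtype.val (F.injective_of_mem hψ h1)
        rw [hx]
        exact h2.symm
    intro α hα
    obtain ⟨hCn, χ, hχ, hχe⟩ := exists_ext_sup_centralizer hS hF hU.1 hUn hα
    have hfn := FusionCrit.isFullyNormalized_of_normal F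
      (sup_le hU.1 (centralizerIn_le (S := S) U)) hCn
    by_cases hCN : F.IsNormal (U ⊔ centralizerIn S U)
    · have hCU : U ⊔ centralizerIn S U ≤ U := le_sSup (s := {Q | F.IsNormal Q}) hCN
      have hfnU := FusionCrit.isFullyNormalized_of_normal F hU.1 hUn
      have hUc : F.IsCentric U := centric_of_fullyCentralized
        (saturated_fullyNormalized hS hF hfnU).1 (le_sup_right.trans hCU)
      exact fix_of_data hW hS hC hU.1 (inf_eq_left.2 hUn) (hloc U hfnU hUc le_rfl) hzB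
        (hzW S le_rfl hzS) hroot hH α hα
    · have hgood : FixesElt z _ χ := IH _ hfn hCN (hU.1.trans (le_inf le_rfl hCn))
        (fun P φ hφ => hH P φ (normalizerHom_of_normSys hfn.1 (inf_eq_left.2 hCn) hφ)) _ χ hχ
      rw [← hχe]
      exact hgood _ (Or.inl rfl)
  have hno : ∀ U, F.IsNormal U → z ∉ U := fun U hU hz =>
    hzB (le_sSup (s := {Q | F.IsNormal Q}) hU hz)
  have hcl := isClosedProp_fixes F z
  let E : FusionSystem S := FusionAlperin.subSystem F (FixesElt z)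
    (fun {P g} hP hg x hx => by
      show g * (x : Ω) * g⁻¹ = x
      rcases hx with hx | hx
      · rw [hx]; exact hzc g hg
      · change g * (x : Ω) * g⁻¹ = z at hx
        have e : (x : Ω) = z := mul_left_cancel (mul_right_cancel (hx.trans (hzc g hg).symm))
        rw [hx, e])
    (fun {P Q φ ψ} hφ hψ h h' hm => hcl.comp hφ hψ h h' hm fun _ => rfl)
    (fun {P φ} hφ h ψ hψ he => hcl.inv hφ hψ h he)
  suffices hle : F ≤ E from fun P φ hφ => (hle P hφ).2
  refine FusionBatch.le_of_centric_radical_step hS hF E fun Q hQ hQc hQr ih α hα => ?_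
  have hαm := autGroup_mem_hom F hQ.1 hα
  refine (mem_autGroup_iff_hom E hQ.1).2 ⟨hαm, ?_⟩
  by_cases hQS : Q = S
  · subst hQS
    exact hH _ _ (mem_normalizerHom_wOf_self hW hS hαm)
  have hzQ : z ∈ Q := hQc.2 Q (isConj_refl F hQ.1) (hzC Q hQ.1)
  have hQfin : Finite Q := finite_of_le ‹_› hQ.1
  have hQT := FusionAux.lt_normalizerIn hS hQ.1 hQS
  have hcl' := chain_claim hS hF hW hcl (fun U => z ∈ U) hBn' hH (c := Nat.card Q) Nat.card_pos
    (fun N θ hθ hlt => (ih N (le_S F hθ) hlt hθ).2)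
    (fun V hV _ => hzW _ (normalizerIn_le V) (centralizerIn_le_normalizerIn V (hzC V hV)))
    (fun N θ hθ hg U hUN hzU =>
      (mem_map_subgroupOf θ).2 ⟨⟨z, hUN hzU⟩, hzU, hg ⟨z, hUN hzU⟩ (Or.inl rfl)⟩)
    hno IH
  refine hcl' _ Q hQ (fun h => hno Q h hzQ)
    ((FusionAlperin.normal_le_centric_radical hS hQc hQr hBn').trans (le_normalizerIn hQ.1))
    (FusionAux.card_lt_card_of_lt (normalizerIn_le Q) hQT) rfl Q _ ?_
  have hle : Q ⊔ Q ≤ Q := (sup_idem Q).le
  refine ⟨hαm, le_normalizerIn hQ.1, fun x => le_normalizerIn hQ.1 (α x).2,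
    restr hle (Q.subtype.comp α.toMonoidHom), restr_mem F hle hαm, fun _ => rfl, ?_⟩
  refine le_antisymm ?_ (fun y hy => ?_)
  · intro y hy
    obtain ⟨x, -, rfl⟩ := (mem_map_subgroupOf _).1 hy
    exact (α _).2
  · refine (mem_map_subgroupOf _).2 ⟨⟨α.symm ⟨y, hy⟩, Subgroup.mem_sup_left (α.symm _).2⟩,
      (α.symm _).2, ?_⟩
    exact congrArg Subtype.val (α.apply_symm_apply ⟨y, hy⟩)

end Cfsg.Agent.FusionQd
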