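import Cfsg.Agent.FusionSys.EssentialFlag
import Cfsg.Agent.FusionCrit.Centric
import Cfsg.Agent.FusionAlperin.Alperin

/-!
# Transvection groups on abelian essential subgroups and the centre
-/

set_option autoImplicit false
set_option linter.all false

open Cfsg Cfsg.FusionSystem Cfsg.Agent.FusionSys

namespace Cfsg.Agent.FusionQd.CentralLine

variable {Ω : Type*} [Group Ω] {S : Subgroup Ω} [Finite S] {p : ℕ} [Fact p.Prime]

/-- `Z ≤ Z(S)` has order `p`, contains all commutators, and `Z(S)` has order `p²`. -/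
structure Setting (S Z Zs : Subgroup Ω) (p : ℕ) : Prop where
  hZs : ∀ c, c ∈ Zs ↔ c ∈ S ∧ ∀ s ∈ S, s * c = c * s
  hle : Z ≤ Zs
  hcardZ : Nat.card Z = p
  hcardZs : Nat.card Zs = p ^ 2
  hcomm : ∀ a ∈ S, ∀ b ∈ S, a * b * a⁻¹ * b⁻¹ ∈ Z

variable {Z Zs : Subgroup Ω} {F : FusionSystem S} {E : Subgroup Ω}

theorem eq_of_inter {H : Type*} [Group H] {A B : Subgroup H} (hA : Nat.card A = p)
    (hB : Nat.card B = p) {x : H} (hxA : x ∈ A) (hxB : x ∈ B) (hx : x ≠ 1) : A = B := by
  haveI : Finite A := Nat.finite_of_card_ne_zero (by rw [hA]; exact (Fact.out : p.Prime).ne_zero)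
  haveI : Finite B := Nat.finite_of_card_ne_zero (by rw [hB]; exact (Fact.out : p.Prime).ne_zero)
  have key : ∀ C : Subgroup H, Finite C → Nat.card C = p → x ∈ C → Subgroup.zpowers x = C := by
    intro C _ hC hxC
    have hle : Subgroup.zpowers x ≤ C := Subgroup.zpowers_le.2 hxC
    refine Subgroup.eq_of_le_of_card_ge hle ?_
    have hd := Subgroup.card_dvd_of_le hle
    rw [hC, Nat.dvd_prime Fact.out] at hd
    rcases hd with h | h
    · exact absurd (orderOf_eq_one_iff.1 ((Nat.card_zpowers x).symm.trans h)) hx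
    · rw [hC, h]
  rw [← key A inferInstance hA hxA, key B inferInstance hB hxB]

theorem mem_zpowers_of_card {H : Type*} [Group H] {A : Subgroup H} (hA : Nat.card A = p) {z : H}
    (hz : z ∈ A) (hz1 : z ≠ 1) {x : H} (hx : x ∈ A) : x ∈ Subgroup.zpowers z := by
  obtain ⟨n, hn⟩ := mem_zpowers_of_prime_card (g := (⟨z, hz⟩ : A)) (g' := ⟨x, hx⟩) hA
    fun h1 => hz1 (congrArg Subtype.val h1)
  exact ⟨n, congrArg Subtype.val hn⟩

theorem le_essential (h : Setting S Z Zs p) (hE : F.IsCentric E) : Zs ≤ E := fun c hc =>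
  hE.2 E (isConj_refl F hE.1) (mem_centralizerIn.2 ⟨((h.hZs c).1 hc).1,
    fun y hy => ((h.hZs c).1 hc).2 y (hE.1 hy)⟩)

theorem normal_of_le (h : Setting S Z Zs p) (hES : E ≤ S) (hZE : Z ≤ E) :
    ∀ g ∈ S, ∀ e ∈ E, g * e * g⁻¹ ∈ E := fun g hg e he => by
  have := mul_mem (hZE (h.hcomm g hg e (hES he))) he
  simpa [mul_assoc] using this

theorem le_normalizer_of_le (h : Setting S Z Zs p) (hES : E ≤ S) (hZE : Z ≤ E) :
    S ≤ Subgroup.normalizer (E : Set Ω) := fun g hg => Subgroup.mem_normalizer_iff.2 fun e =>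
  ⟨normal_of_le h hES hZE g hg e, fun he => by
    have := normal_of_le h hES hZE g⁻¹ (inv_mem hg) _ he
    simpa [mul_assoc] using this⟩

/-- The essential subgroups we consider. -/
structure Ess (F : FusionSystem S) (Z Zs E : Subgroup Ω) (p : ℕ) : Prop where
  hfix : F.IsSaturated p
  hS : IsPGroup p S
  hset : Setting S Z Zs p
  hc : F.IsCentric E
  hne : E ≠ S
  hab : ∀ x y : E, x * y = y * x

namespace Ess

variable (D : Ess F Z Zs E p)
include D

theorem hES : E ≤ S := D.hc.1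

theorem zs_le : Zs ≤ E := le_essential D.hset D.hc

theorem z_le : Z ≤ E := D.hset.hle.trans D.zs_le

theorem finE : Finite E := finite_of_le ‹_› D.hES

theorem hn : S ≤ Subgroup.normalizer (E : Set Ω) := le_normalizer_of_le D.hset D.hES D.z_le

theorem fullyNormalized : F.IsFullyNormalized E :=
  FusionCrit.isFullyNormalized_of_normal F D.hES D.hn

theorem exists_sylow :
    ∃ R : Sylow p (F.autGroup E), (R : Subgroup (F.autGroup E)) = (autInducedBy S E).subgroupOf (F.autGroup E) :=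
  (saturated_fullyNormalized D.hS D.hfix D.fullyNormalized).2.2

theorem card_z : Nat.card (Z.subgroupOf E) = p := by
  rw [Nat.card_congr (Subgroup.subgroupOfEquivOfLe D.z_le).toEquiv, D.hset.hcardZ]

theorem card_map {γ : MulAut E} : Nat.card ((Z.subgroupOf E).map γ.toMonoidHom) = p := by
  rw [Subgroup.card_map_of_injective γ.injective, D.card_z]

theorem moves {a : MulAut E} (ha : a ∈ autInducedBy S E) (e : E) : a e * e⁻¹ ∈ Z.subgroupOf E := by
  obtain ⟨g, hg, he⟩ := mem_autInducedBy.1 ha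
  show ((a e : E) : Ω) * (e : Ω)⁻¹ ∈ Z
  rw [he e]
  exact D.hset.hcomm g hg e (D.hES e.2)

theorem fixes {a : MulAut E} (ha : a ∈ autInducedBy S E) {c : E} (hc : (c : Ω) ∈ Zs) : a c = c := by
  obtain ⟨g, hg, he⟩ := mem_autInducedBy.1 ha
  refine Subtype.ext ?_
  rw [he c, ((D.hset.hZs c).1 hc).2 g hg, mul_inv_cancel_right]

theorem moves_conj {γ a : MulAut E} (ha : a ∈ autInducedBy S E) (e : E) :
    (γ * a * γ⁻¹) e * e⁻¹ ∈ (Z.subgroupOf E).map γ.toMonoidHom := by
  refine ⟨a (γ⁻¹ e) * (γ⁻¹ e)⁻¹, D.moves ha _, ?_⟩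
  rw [MulEquiv.coe_toMonoidHom, map_mul, map_inv, show γ (γ⁻¹ e) = e from γ.apply_symm_apply e]
  rfl

theorem fixes_conj {γ a : MulAut E} (ha : a ∈ autInducedBy S E) {c : E} (hc : (c : Ω) ∈ Zs) :
    (γ * a * γ⁻¹) (γ c) = γ c := by
  show γ (a (γ⁻¹ (γ c))) = γ c
  rw [show γ⁻¹ (γ c) = c from γ.symm_apply_apply c, D.fixes ha hc]

theorem autInducedBy_ne_bot : autInducedBy S E ≠ ⊥ := by
  intro hbot
  refine D.hne (le_antisymm D.hES fun g hg => ?_)
  refine D.hc.2 E (isConj_refl F D.hES) (mem_centralizerIn_iff_conj.2 ⟨hg, fun x => ?_⟩)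
  have hm : E.normalizerMonoidHom ⟨g, D.hn hg⟩ ∈ autInducedBy S E :=
    mem_autInducedBy.2 ⟨g, hg, fun _ => rfl⟩
  rw [hbot, Subgroup.mem_bot] at hm
  exact congrArg (fun β : MulAut E => (β x : Ω)) hm

/-- Two commuting displaced elements have the same centre. -/
theorem centre_eq {γ : MulAut E} (hγ : γ ∈ F.autGroup E) {a b : MulAut E}
    (ha : a ∈ autInducedBy S E) (ha1 : a ≠ 1) (hb : b ∈ autInducedBy S E) (hb1 : b ≠ 1)
    (hcomm : a * (γ * b * γ⁻¹) = γ * b * γ⁻¹ * a) :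
    (Z.subgroupOf E).map γ.toMonoidHom = Z.subgroupOf E := by
  haveI := D.finE
  haveI : Finite (F.autGroup E) := inferInstance
  obtain ⟨R, hR⟩ := D.exists_sylow
  have hA := autInducedBy_le_autGroup F D.hES
  set b' := γ * b * γ⁻¹ with hb'
  have hAp : IsPGroup p (autInducedBy S E) := isPGroup_autInducedBy D.hS E
  have hbp : IsPGroup p (Subgroup.zpowers b') := by
    have := (hAp.to_le (Subgroup.zpowers_le.2 hb)).map (MulAut.conj γ).toMonoidHom
    rwa [MonoidHom.map_zpowers] at this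
  have hap : IsPGroup p (Subgroup.zpowers a) := hAp.to_le (Subgroup.zpowers_le.2 ha)
  have hnorm : Subgroup.zpowers b' ≤ Subgroup.normalizer ((Subgroup.zpowers a : Subgroup (MulAut E)) : Set (MulAut E)) := by
    refine le_trans (Subgroup.zpowers_le.2 (Subgroup.mem_centralizer_iff.2 ?_)) (Subgroup.centralizer_le_normalizer _)
    rintro _ ⟨n, rfl⟩
    exact ((show Commute a b' from hcomm).zpow_left n).eq
  have hP : IsPGroup p ((Subgroup.zpowers a ⊔ Subgroup.zpowers b').subgroupOf (F.autGroup E)) :=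
    (IsPGroup.to_sup_of_normal_left' hap hbp hnorm).comap_subtype
  obtain ⟨R', hR'⟩ := hP.exists_le_sylow
  obtain ⟨ε, hε⟩ := MulAction.exists_smul_eq (F.autGroup E) R R'
  have hmem : ∀ c ∈ Subgroup.zpowers a ⊔ Subgroup.zpowers b', ∃ a₀ ∈ autInducedBy S E,
      (ε : MulAut E) * a₀ * (ε : MulAut E)⁻¹ = c := by
    intro c hc
    have hcF : c ∈ F.autGroup E := sup_le (Subgroup.zpowers_le.2 (hA ha))
      (Subgroup.zpowers_le.2 (mul_mem (mul_mem hγ (hA hb)) (inv_mem hγ))) hc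
    have := hR' (show (⟨c, hcF⟩ : F.autGroup E) ∈ _ from hc)
    rw [← hε, Sylow.coe_subgroup_smul] at this
    obtain ⟨a₀, ha₀, he⟩ := this
    rw [hR] at ha₀
    exact ⟨a₀, ha₀, congrArg Subtype.val he⟩
  have hkey : ∀ (δ : MulAut E) (c : MulAut E), c ≠ 1 → (∀ e, c e * e⁻¹ ∈ (Z.subgroupOf E).map δ.toMonoidHom) →
      c ∈ Subgroup.zpowers a ⊔ Subgroup.zpowers b' →
      (Z.subgroupOf E).map δ.toMonoidHom = (Z.subgroupOf E).map (ε : MulAut E).toMonoidHom := by
    intro δ c hc1 hcd hcm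
    obtain ⟨a₀, ha₀, he⟩ := hmem c hcm
    obtain ⟨e, hee⟩ : ∃ e, c e ≠ e := by
      by_contra hall
      push Not at hall
      exact hc1 (MulEquiv.ext hall)
    refine eq_of_inter D.card_map D.card_map (hcd e) ?_ fun h1 => hee (mul_inv_eq_one.1 h1)
    rw [← he]
    exact D.moves_conj ha₀ e
  have hb1' : b' ≠ 1 := fun h1 => hb1 (conj_eq_one_iff.1 h1)
  rw [hkey γ b' hb1' (D.moves_conj hb) (Subgroup.mem_sup_right (Subgroup.mem_zpowers b')),
    ← hkey 1 a ha1 (fun e => ⟨_, D.moves ha e, rfl⟩) (Subgroup.mem_sup_left (Subgroup.mem_zpowers a))]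
  exact Subgroup.map_id _

/-- Two transvections fixing each other's centres commute. -/
theorem comm_of_fix {γ : MulAut E} {a b : MulAut E} (ha : a ∈ autInducedBy S E) (hb : b ∈ autInducedBy S E)
    (haf : ∀ w ∈ (Z.subgroupOf E).map γ.toMonoidHom, a w = w)
    (hbf : ∀ w ∈ Z.subgroupOf E, (γ * b * γ⁻¹) w = w) : a * (γ * b * γ⁻¹) = γ * b * γ⁻¹ * a := by
  refine MulEquiv.ext fun e => ?_
  set b' := γ * b * γ⁻¹
  show a (b' e) = b' (a e)
  have h1 : b' e = (b' e * e⁻¹) * e := by group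
  have h2 : a e = (a e * e⁻¹) * e := by group
  conv_lhs => rw [h1, map_mul, haf _ (D.moves_conj hb e), h2]
  conv_rhs => rw [h2, map_mul, hbf _ (D.moves ha e), h1]
  rw [← mul_assoc, inv_mul_cancel_right]
  show (b' e * e⁻¹) * (a e * e⁻¹) * e = a e * e⁻¹ * b' e
  rw [D.hab (b' e * e⁻¹) (a e * e⁻¹), mul_assoc, inv_mul_cancel_right]

/-- An automorphism fixing the centre of the transvections normalizes them. -/
theorem normalizes {γ : MulAut E} (hγ : γ ∈ F.autGroup E)
    (hγZ : (Z.subgroupOf E).map γ.toMonoidHom = Z.subgroupOf E) {a : MulAut E}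
    (ha : a ∈ autInducedBy S E) : γ * a * γ⁻¹ ∈ autInducedBy S E := by
  haveI := D.finE
  obtain ⟨R, hR⟩ := D.exists_sylow
  have hA := autInducedBy_le_autGroup F D.hES
  set b := γ * a * γ⁻¹ with hb
  have hAp : IsPGroup p (autInducedBy S E) := isPGroup_autInducedBy D.hS E
  have hbp : IsPGroup p (Subgroup.zpowers b) := by
    have := (hAp.to_le (Subgroup.zpowers_le.2 ha)).map (MulAut.conj γ).toMonoidHom
    rwa [MonoidHom.map_zpowers] at this
  have hnorm : Subgroup.zpowers b ≤ Subgroup.normalizer ((autInducedBy S E : Subgroup (MulAut E)) : Set (MulAut E)) := by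
    refine le_trans (Subgroup.zpowers_le.2 (Subgroup.mem_centralizer_iff.2 fun a₀ ha₀ => ?_))
      (Subgroup.centralizer_le_normalizer _)
    exact D.comm_of_fix (γ := γ) ha₀ ha (fun w hw => D.fixes ha₀ (D.hset.hle (hγZ ▸ hw :)))
      fun w hw => by
        rw [← hγZ] at hw
        obtain ⟨c, hc, rfl⟩ := hw
        exact D.fixes_conj ha (D.hset.hle hc)
  have hP : IsPGroup p ((autInducedBy S E ⊔ Subgroup.zpowers b).subgroupOf (F.autGroup E)) :=
    (IsPGroup.to_sup_of_normal_left' hAp hbp hnorm).comap_subtype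
  have hmax := R.3 hP (by rw [hR]; exact Subgroup.comap_mono le_sup_left)
  have hbF : b ∈ F.autGroup E := mul_mem (mul_mem hγ (hA ha)) (inv_mem hγ)
  have : (⟨b, hbF⟩ : F.autGroup E) ∈ (R : Subgroup (F.autGroup E)) :=
    hmax ▸ (show b ∈ autInducedBy S E ⊔ Subgroup.zpowers b from
      Subgroup.mem_sup_right (Subgroup.mem_zpowers b))
  rw [hR] at this
  exact this

/-- An automorphism normalizing the induced ones extends to `S`. -/
theorem extends_top {γ : MulAut E} (hγ : γ ∈ F.autGroup E)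
    (hn : ∀ a ∈ autInducedBy S E, γ * a * γ⁻¹ ∈ autInducedBy S E) :
    ∃ β ∈ F.autGroup S, ∀ e : E, ((β ⟨e, D.hES e.2⟩ : S) : Ω) = γ e := by
  obtain ⟨ψ, hψ, hψe⟩ := FusionAlperin.exists_ext_aut'
    (saturated_receptive_of_fullyNormalized D.hS D.hfix D.fullyNormalized) hγ D.hES
    (le_inf le_rfl D.hn) (fun g hg => ⟨⟨g, D.hn hg⟩, hn _ (mem_autInducedBy.2 ⟨g, hg, fun _ => rfl⟩), rfl⟩)
  have hr : ψ.range = S := range_eq_of_image_le (F.injective_of_mem hψ)
    (by rintro _ ⟨x, rfl⟩; exact map_mem_S F hψ x) le_rfl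
  exact ⟨_, toIso_mem_autGroup F hψ hr, fun e => hψe e⟩

theorem exists_fixing_kernel (hbig : p < Nat.card (autInducedBy S E)) (w : E) :
    ∃ a ∈ autInducedBy S E, a ≠ 1 ∧ a w = w := by
  haveI := D.finE
  have hinj : ¬ Function.Injective (fun a : autInducedBy S E => (⟨(a : MulAut E) w * w⁻¹, D.moves a.2 w⟩ : Z.subgroupOf E)) := by
    intro hinj
    have := Nat.card_le_card_of_injective _ hinj
    rw [D.card_z] at this
    omega
  simp only [Function.Injective, not_forall] at hinj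
  obtain ⟨a, b, he, hne⟩ := hinj
  have he' : (a : MulAut E) w = (b : MulAut E) w := mul_right_cancel (congrArg Subtype.val he)
  refine ⟨((a : MulAut E))⁻¹ * b, mul_mem (inv_mem a.2) b.2, fun h1 => hne (Subtype.ext ?_), ?_⟩
  · exact inv_mul_eq_one.1 h1
  · show (a : MulAut E)⁻¹ ((b : MulAut E) w) = w
    rw [← he']
    exact (a : MulAut E).symm_apply_apply w

section Moved

variable {γ : MulAut E} (hγ : γ ∈ F.autGroup E)
  (hmov : (Z.subgroupOf E).map γ.toMonoidHom ≠ Z.subgroupOf E)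
include hγ hmov

theorem card_induced : Nat.card (autInducedBy S E) = p := by
  haveI := D.finE
  rcases lt_trichotomy (Nat.card (autInducedBy S E)) p with h | h | h
  · obtain ⟨n, hn⟩ := (isPGroup_autInducedBy D.hS E).exists_card_eq
    rw [hn] at h
    rcases n with _ | n
    · exact absurd (Subgroup.card_eq_one.1 (hn.trans (pow_zero p))) D.autInducedBy_ne_bot
    · exact absurd h (not_lt.2 (Nat.le_self_pow n.succ_ne_zero p))
  · exact h
  · exfalso
    haveI : Fintype (Z.subgroupOf E) := Fintype.ofFinite _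
    obtain ⟨z, hz, hz1⟩ : ∃ z ∈ Z.subgroupOf E, z ≠ 1 := by
      refine ((Subgroup.ne_bot_iff_exists_ne_one (H := Z.subgroupOf E)).1 fun hb => ?_).elim fun z hz => ⟨z, z.2, fun h1 => hz (Subtype.ext h1)⟩
      have := D.card_z
      rw [hb, Subgroup.card_bot] at this
      exact (Fact.out : p.Prime).ne_one this.symm
    have hgen : ∀ (c : MulAut E), c z = z → ∀ x ∈ Z.subgroupOf E, c x = x := fun c hc x hx => by
      have : x ∈ Subgroup.zpowers z :=
        mem_zpowers_of_card D.card_z hz hz1 hx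
      obtain ⟨n, rfl⟩ := this
      simp [map_zpow, hc]
    obtain ⟨a, ha, ha1, haf⟩ := D.exists_fixing_kernel h (γ z)
    obtain ⟨b, hb, hb1, hbf⟩ := D.exists_fixing_kernel h (γ⁻¹ z)
    refine hmov (D.centre_eq hγ ha ha1 hb hb1 (D.comm_of_fix ha hb ?_ (hgen _ ?_)))
    · rintro _ ⟨x, hx, rfl⟩
      have : x ∈ Subgroup.zpowers z := mem_zpowers_of_card D.card_z hz hz1 hx
      obtain ⟨n, rfl⟩ := this
      simp [map_zpow, haf]
    · show γ (b (γ⁻¹ z)) = z
      rw [hbf]
      exact γ.apply_symm_apply z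

/-- A moved centre does not lie in the centre of `S`. -/
theorem exists_not_central : ∃ w ∈ (Z.subgroupOf E).map γ.toMonoidHom, (w : Ω) ∉ Zs := by
  by_contra hall
  push Not at hall
  obtain ⟨⟨a, ha⟩, ha1⟩ := Subgroup.ne_bot_iff_exists_ne_one.1 D.autInducedBy_ne_bot
  have ha1' : a ≠ 1 := fun h1 => ha1 (Subtype.ext h1)
  have haf : ∀ w ∈ (Z.subgroupOf E).map γ.toMonoidHom, a w = w := fun w hw => D.fixes ha (hall w hw)
  set b := γ * a * γ⁻¹ with hb
  have hbF : b ∈ F.autGroup E :=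
    mul_mem (mul_mem hγ (autInducedBy_le_autGroup F D.hES ha)) (inv_mem hγ)
  by_cases hbfix : ∀ w ∈ Z.subgroupOf E, b w = w
  · exact hmov (D.centre_eq hγ ha ha1' ha ha1' (D.comm_of_fix ha ha haf hbfix))
  push Not at hbfix
  obtain ⟨z, hz, hzb⟩ := hbfix
  -- `b` preserves the centre of `S`
  have hbZs : ∀ c : E, (c : Ω) ∈ Zs → ((b c : E) : Ω) ∈ Zs ∧ ((b⁻¹ c : E) : Ω) ∈ Zs := by
    intro c hc
    constructor
    · have := mul_mem (hall _ (D.moves_conj (γ := γ) ha c)) hc
      simp only [Subgroup.coe_mul, InvMemClass.coe_inv, inv_mul_cancel_right] at this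
      exact this
    · have h1 := D.moves_conj (γ := γ) ha (b⁻¹ c)
      rw [show b (b⁻¹ c) = c from b.apply_symm_apply c] at h1
      have := mul_mem (inv_mem (hall _ h1)) hc
      simp only [Subgroup.coe_mul, InvMemClass.coe_inv, mul_inv_rev, inv_inv, inv_mul_cancel_right] at this
      exact this
  have hcm : a * (b * a * b⁻¹) = b * a * b⁻¹ * a := by
    refine D.comm_of_fix ha ha ?_ ?_
    · rintro _ ⟨c, hc, rfl⟩
      exact D.fixes ha (hbZs c (D.hset.hle hc)).1
    · intro w hw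
      show b (a (b⁻¹ w)) = w
      rw [D.fixes ha (hbZs w (D.hset.hle hw)).2]
      exact b.apply_symm_apply w
  have hbZ := D.centre_eq hbF ha ha1' ha ha1' hcm
  refine hmov (eq_of_inter D.card_map D.card_z (D.moves_conj (γ := γ) ha z) ?_ fun h1 => hzb (mul_inv_eq_one.1 h1))
  refine mul_mem ?_ (inv_mem hz)
  rw [← hbZ]
  exact ⟨z, hz, rfl⟩

end Moved

end Ess

end Cfsg.Agent.FusionQd.CentralLine
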