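import Cfsg.Agent.FusionQd.CentralLine

/-!
# A normal line in the centre
-/

set_option autoImplicit false
set_option linter.all false

open Cfsg Cfsg.FusionSystem Cfsg.Agent.FusionSys

namespace Cfsg.Agent.FusionQd.CentralLine

variable {Ω : Type*} [Group Ω] {S : Subgroup Ω} [Finite S] {p : ℕ} [Fact p.Prime]
  {Z Zs : Subgroup Ω} {F : FusionSystem S} {E : Subgroup Ω}

/-- A complement of `Z` in `Zs` fixed by all automorphisms of `S`, with an automorphism inverting `Z`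
and centralizing it. -/
structure Line (F : FusionSystem S) (Z Zs X : Subgroup Ω) : Prop where
  hle : X ≤ Zs
  hne : X ≠ ⊥
  hdisj : X ⊓ Z = ⊥
  hbeta : ∃ β ∈ F.autGroup S, (∀ s : S, (s : Ω) ∈ Z → β s = s⁻¹) ∧ ∀ s : S, (s : Ω) ∈ X → β s = s

theorem zs_le_S (h : Setting S Z Zs p) : Zs ≤ S := fun c hc => ((h.hZs c).1 hc).1

theorem exists_prod (h : Setting S Z Zs p) {X : Subgroup Ω} (hX : Line F Z Zs X) {y : Ω} (hy : y ∈ Zs) :
    ∃ x ∈ X, ∃ z ∈ Z, x * z = y := by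
  haveI : Finite Zs := Nat.finite_of_card_ne_zero (by
    rw [h.hcardZs]; exact pow_ne_zero _ (Fact.out : p.Prime).ne_zero)
  haveI : Finite Z := Nat.finite_of_card_ne_zero (by rw [h.hcardZ]; exact (Fact.out : p.Prime).ne_zero)
  haveI : Finite X := Finite.of_injective _ (Subgroup.inclusion_injective hX.hle)
  let m : X × Z → Zs := fun w => ⟨(w.1 : Ω) * w.2, mul_mem (hX.hle w.1.2) (h.hle w.2.2)⟩
  have hinj : Function.Injective m := by
    rintro ⟨⟨x, hx⟩, ⟨z, hz⟩⟩ ⟨⟨x', hx'⟩, ⟨z', hz'⟩⟩ he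
    have he' : x * z = x' * z' := congrArg Subtype.val he
    have h2 : x'⁻¹ * x = z' * z⁻¹ := by
      rw [eq_mul_inv_iff_mul_eq, mul_assoc, he', inv_mul_cancel_left]
    have h3 : x'⁻¹ * x ∈ X ⊓ Z := Subgroup.mem_inf.2 ⟨mul_mem (InvMemClass.inv_mem hx') hx, h2 ▸ mul_mem hz' (InvMemClass.inv_mem hz)⟩
    rw [hX.hdisj, Subgroup.mem_bot] at h3
    obtain rfl : x = x' := (inv_mul_eq_one.1 h3).symm
    obtain rfl : z = z' := mul_left_cancel he'
    rfl
  have hp : p ≤ Nat.card X := by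
    have hd : Nat.card X ∣ p ^ 2 := h.hcardZs ▸ Subgroup.card_dvd_of_le hX.hle
    obtain ⟨k, -, hk⟩ := (Nat.dvd_prime_pow Fact.out).1 hd
    rcases k with _ | k
    · exact absurd (Subgroup.card_eq_one.1 (hk.trans (pow_zero p))) hX.hne
    · rw [hk]; exact Nat.le_self_pow k.succ_ne_zero p
  have hbij : Function.Bijective m := by
    refine (Nat.bijective_iff_injective_and_card m).2 ⟨hinj, le_antisymm (Nat.card_le_card_of_injective _ hinj) ?_⟩
    rw [Nat.card_prod, h.hcardZ, h.hcardZs, sq]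
    exact Nat.mul_le_mul_right p hp
  obtain ⟨⟨x, z⟩, he⟩ := hbij.2 ⟨y, hy⟩
  exact ⟨x, x.2, z, z.2, congrArg Subtype.val he⟩

theorem sq_eq_one_imp {z : Ω} (hp : p ≠ 2) (hz : z ^ p = 1) (h2 : z ^ 2 = 1) : z = 1 :=
  orderOf_eq_one_iff.1 (Nat.eq_one_of_dvd_coprimes
    ((Nat.coprime_primes Fact.out Nat.prime_two).2 hp) (orderOf_dvd_of_pow_eq_one hz)
    (orderOf_dvd_of_pow_eq_one h2))

theorem pow_p_eq_one (h : Setting S Z Zs p) {z : Ω} (hz : z ∈ Z) : z ^ p = 1 := by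
  have := pow_card_eq_one' (x := (⟨z, hz⟩ : Z))
  rw [h.hcardZ] at this
  exact congrArg Subtype.val this

theorem aut_mem_z (hZaut : ∀ β ∈ F.autGroup S, ∀ s : S, (s : Ω) ∈ Z → ((β s : S) : Ω) ∈ Z)
    {β : MulAut S} (hβ : β ∈ F.autGroup S) {s : S} (hs : (s : Ω) ∈ Z) :
    ((β.symm s : S) : Ω) ∈ Z := hZaut β⁻¹ (InvMemClass.inv_mem hβ) s hs

theorem aut_mem_zs (h : Setting S Z Zs p) (β : MulAut S) {s : S} (hs : (s : Ω) ∈ Zs) :
    ((β s : S) : Ω) ∈ Zs := by
  refine (h.hZs _).2 ⟨(β s).2, fun t ht => ?_⟩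
  have h1 : β.symm ⟨t, ht⟩ * s = s * β.symm ⟨t, ht⟩ :=
    Subtype.ext (((h.hZs _).1 hs).2 _ (β.symm ⟨t, ht⟩).2)
  have h2 := congrArg (fun w => ((β w : S) : Ω)) h1
  simpa using h2

/-- A `p`-element of `Aut_F(S)` is inner, so fixes `Zs`. -/
theorem pElem_fix (hS : IsPGroup p S) (hF : F.IsSaturated p) (h : Setting S Z Zs p)
    {σ : MulAut S} (hσ : σ ∈ F.autGroup S) {k : ℕ} (hk : σ ^ p ^ k = 1) {s : S}
    (hs : (s : Ω) ∈ Zs) : σ s = s := by
  obtain ⟨R, hR⟩ := FusionBatch.autGroup_self_sylow hS hF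
  haveI := FusionAlperin.inn_normal_autGroup F S
  haveI : ((R : Subgroup (F.autGroup S))).Normal := by rw [hR]; infer_instance
  have hz : IsPGroup p (Subgroup.zpowers (⟨σ, hσ⟩ : F.autGroup S)) := by
    obtain ⟨j, -, hj⟩ := (Nat.dvd_prime_pow Fact.out).1
      (orderOf_dvd_of_pow_eq_one (x := (⟨σ, hσ⟩ : F.autGroup S)) (n := p ^ k) (Subtype.ext hk))
    exact IsPGroup.of_card (n := j) (by rw [Nat.card_zpowers, hj])
  obtain ⟨R', hR'⟩ := hz.exists_le_sylow
  obtain ⟨ε, hε⟩ := MulAction.exists_smul_eq (F.autGroup S) R R'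
  have : (⟨σ, hσ⟩ : F.autGroup S) ∈ (R : Subgroup (F.autGroup S)) := by
    have h1 := hR' (Subgroup.mem_zpowers _)
    rwa [← hε, Sylow.coe_subgroup_smul, Subgroup.Normal.conj_smul_eq_self] at h1
  rw [hR] at this
  obtain ⟨g, hg⟩ := this
  have hg' : MulAut.conj g = σ := hg
  refine Subtype.ext ?_
  rw [← hg']
  show (g : Ω) * s * (g : Ω)⁻¹ = s
  rw [((h.hZs _).1 hs).2 g g.2, mul_inv_cancel_right]

/-- The line is preserved by the automorphisms of `S`. -/
theorem Line.invariant (hS : IsPGroup p S) (hF : F.IsSaturated p) (hp : p ≠ 2) (h : Setting S Z Zs p)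
    (hZaut : ∀ β ∈ F.autGroup S, ∀ s : S, (s : Ω) ∈ Z → ((β s : S) : Ω) ∈ Z)
    {X : Subgroup Ω} (hX : Line F Z Zs X) :
    ∀ δ ∈ F.autGroup S, ∀ s : S, (s : Ω) ∈ X → ((δ s : S) : Ω) ∈ X := by
  intro δ hδ s hs
  obtain ⟨β, hβ, hβZ, hβX⟩ := hX.hbeta
  have hinvZ : ∀ s : S, (s : Ω) ∈ Z → β.symm s = s⁻¹ := fun s hs => by
    rw [MulEquiv.symm_apply_eq, hβZ s⁻¹ (by simpa using hs), inv_inv]
  have hquot : ∀ y : S, (y : Ω) ∈ Zs → ((y⁻¹ * β y : S) : Ω) ∈ Z := by
    intro y hy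
    obtain ⟨x, hx, z, hz, he⟩ := exists_prod h hX hy
    have hy' : y = ⟨x, zs_le_S h (hX.hle hx)⟩ * ⟨z, zs_le_S h (h.hle hz)⟩ := Subtype.ext he.symm
    rw [hy', map_mul, hβX _ hx, hβZ _ hz]
    simpa [mul_assoc] using mul_mem (InvMemClass.inv_mem hz) (InvMemClass.inv_mem hz)
  have hquot' : ∀ y : S, (y : Ω) ∈ Zs → ((y⁻¹ * β.symm y : S) : Ω) ∈ Z := by
    intro y hy
    have h1 := InvMemClass.inv_mem (hquot (β.symm y) (aut_mem_zs h β.symm hy))
    rw [MulEquiv.apply_symm_apply] at h1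
    simpa using h1
  set σ := δ * β * δ⁻¹ * β⁻¹ with hσdef
  have hσ : σ ∈ F.autGroup S := mul_mem (mul_mem (mul_mem hδ hβ) (InvMemClass.inv_mem hδ)) (InvMemClass.inv_mem hβ)
  have hσZ : ∀ y : S, (y : Ω) ∈ Z → σ y = y := by
    intro y hy
    show δ (β (δ.symm (β.symm y))) = y
    rw [hinvZ y hy, map_inv δ.symm, hβZ _ (by simpa using aut_mem_z hZaut hδ hy), inv_inv,
      MulEquiv.apply_symm_apply]
  have hσq : ∀ y : S, (y : Ω) ∈ Zs → ((y⁻¹ * σ y : S) : Ω) ∈ Z := by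
    intro y hy
    show ((y⁻¹ * δ (β (δ.symm (β.symm y))) : S) : Ω) ∈ Z
    have hu : (((δ.symm (β.symm y))) : Ω) ∈ Zs := aut_mem_zs h δ.symm (aut_mem_zs h β.symm hy)
    have h1 := hZaut δ hδ _ (hquot _ hu)
    rw [map_mul, map_inv, MulEquiv.apply_symm_apply] at h1
    have h2 := mul_mem (hquot' y hy) h1
    simpa [mul_assoc] using h2
  have hσ1 : ∀ y : S, (y : Ω) ∈ Zs → σ y = y := by
    intro y hy
    obtain ⟨ζ, hζ⟩ : ∃ ζ : S, ζ = y⁻¹ * σ y := ⟨_, rfl⟩
    have hζZ : (ζ : Ω) ∈ Z := hζ ▸ hσq y hy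
    have hy1 : σ y = y * ζ := by rw [hζ, mul_inv_cancel_left]
    have hpow : ∀ n : ℕ, (σ ^ n) y = y * ζ ^ n := by
      intro n
      induction n with
      | zero => simp
      | succ n ih =>
        rw [pow_succ', MulAut.mul_apply, ih, map_mul, map_pow, hσZ _ hζZ, hy1, pow_succ', mul_assoc]
    haveI : Finite (MulAut S) := inferInstance
    obtain ⟨a, m, hm, ho⟩ := Nat.exists_eq_pow_mul_and_not_dvd (orderOf_pos σ).ne' p
      (Fact.out : p.Prime).ne_one
    have hfix := pElem_fix hS hF h (σ := σ ^ m) (pow_mem hσ m) (k := a)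
      (by rw [← pow_mul, mul_comm, ← ho, pow_orderOf_eq_one]) hy
    rw [hpow, mul_eq_left] at hfix
    have hζ1 : ζ = 1 := orderOf_eq_one_iff.1 (Nat.eq_one_of_dvd_coprimes
      ((Fact.out : p.Prime).coprime_iff_not_dvd.2 hm)
      (orderOf_dvd_of_pow_eq_one (Subtype.ext (pow_p_eq_one h hζZ) : ζ ^ p = 1))
      (orderOf_dvd_of_pow_eq_one hfix))
    rw [hy1, hζ1, mul_one]
  have hyZs : ((δ s : S) : Ω) ∈ Zs := aut_mem_zs h δ (hX.hle hs)
  have hfixed : β (δ s) = δ s := by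
    have h1 := hσ1 (δ s) hyZs
    have h1' : δ (β (δ.symm (β.symm (δ s)))) = δ s := h1
    have h2 : β (δ.symm (β.symm (δ s))) = s := δ.injective h1'
    have h3 : δ.symm (β.symm (δ s)) = s := β.injective (h2.trans (hβX s hs).symm)
    have h4 : β.symm (δ s) = δ s := δ.symm.injective (h3.trans (δ.symm_apply_apply s).symm)
    conv_lhs => rw [← h4]
    exact β.apply_symm_apply _
  obtain ⟨x, hx, z, hz, he⟩ := exists_prod h hX hyZs
  have hy' : δ s = ⟨x, zs_le_S h (hX.hle hx)⟩ * ⟨z, zs_le_S h (h.hle hz)⟩ := Subtype.ext he.symm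
  rw [hy', map_mul, hβX _ hx, hβZ _ hz, mul_right_inj] at hfixed
  have hz1 : z = 1 := sq_eq_one_imp hp (pow_p_eq_one h hz) (by
    rw [sq]
    have hz' : z⁻¹ = z := congrArg Subtype.val hfixed
    nth_rewrite 1 [← hz']
    exact inv_mul_cancel z)
  rw [← he, hz1, mul_one]
  exact hx

/-- Two invariant lines coincide. -/
theorem Line.unique (hS : IsPGroup p S) (hF : F.IsSaturated p) (hp : p ≠ 2) (h : Setting S Z Zs p)
    (hZaut : ∀ β ∈ F.autGroup S, ∀ s : S, (s : Ω) ∈ Z → ((β s : S) : Ω) ∈ Z)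
    {X Y : Subgroup Ω} (hX : Line F Z Zs X) (hY : Line F Z Zs Y) : Y ≤ X := by
  intro y hy
  obtain ⟨β, hβ, hβZ, hβX⟩ := hX.hbeta
  have hyS := zs_le_S h (hY.hle hy)
  have hβy := hY.invariant hS hF hp h hZaut β hβ ⟨y, hyS⟩ hy
  obtain ⟨x, hx, z, hz, he⟩ := exists_prod h hX (hY.hle hy)
  have hy' : (⟨y, hyS⟩ : S) = ⟨x, zs_le_S h (hX.hle hx)⟩ * ⟨z, zs_le_S h (h.hle hz)⟩ := Subtype.ext he.symm
  rw [hy', map_mul, hβX _ hx, hβZ _ hz] at hβy
  have h3 : y⁻¹ * (x * z⁻¹) ∈ Y ⊓ Z := Subgroup.mem_inf.2 ⟨mul_mem (InvMemClass.inv_mem hy) hβy, by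
    rw [← he]
    simpa [mul_assoc] using mul_mem (InvMemClass.inv_mem hz) (InvMemClass.inv_mem hz)⟩
  rw [hY.hdisj, Subgroup.mem_bot, ← he, mul_inv_rev, mul_assoc, inv_mul_cancel_left] at h3
  rw [← mul_inv_rev, inv_eq_one, ← sq] at h3
  rw [← he, sq_eq_one_imp hp (pow_p_eq_one h hz) h3, mul_one]
  exact hx

namespace Ess

variable (D : Ess F Z Zs E p)
include D

theorem mem_zs_of_fixed {a : MulAut E} (hA : ∀ b ∈ autInducedBy S E, b ∈ Subgroup.zpowers a)
    {e : E} (he : a e = e) : (e : Ω) ∈ Zs := by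
  refine (D.hset.hZs _).2 ⟨D.hES e.2, fun g hg => ?_⟩
  obtain ⟨n, hn⟩ := hA (E.normalizerMonoidHom ⟨g, D.hn hg⟩) (mem_autInducedBy.2 ⟨g, hg, fun _ => rfl⟩)
  have h1 : E.normalizerMonoidHom ⟨g, D.hn hg⟩ e = e := by
    rw [← hn]
    exact zpow_smul_eq_of_smul_eq (α := MulAut E) n he
  have h2 : g * (e : Ω) * g⁻¹ = e := congrArg Subtype.val h1
  exact eq_mul_inv_iff_mul_eq.1 h2.symm |>.symm
  where
  zpow_smul_eq_of_smul_eq {α : Type _} [Group α] [MulAction α E] {a : α} (n : ℤ) {e : E}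
      (he : a • e = e) : a ^ n • e = e :=
    MulAction.mem_stabilizer_iff.1 (zpow_mem (MulAction.mem_stabilizer_iff.2 he) n)

section Moved

variable {γ : MulAut E} (hγ : γ ∈ F.autGroup E)
  (hmov : (Z.subgroupOf E).map γ.toMonoidHom ≠ Z.subgroupOf E)
include hγ hmov

theorem mover_symm : (Z.subgroupOf E).map (γ⁻¹ : MulAut E).toMonoidHom ≠ Z.subgroupOf E := fun h => by
  apply hmov
  conv_lhs => rw [← h]
  rw [Subgroup.map_map]
  convert Subgroup.map_id (Z.subgroupOf E)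
  ext x
  simp

theorem card_eq : Nat.card E = p ^ 3 ∧ Nat.card S = p ^ 4 := by
  haveI := D.finE
  obtain ⟨⟨a, ha⟩, ha1⟩ := Subgroup.ne_bot_iff_exists_ne_one.1 D.autInducedBy_ne_bot
  have hA : ∀ b ∈ autInducedBy S E, b ∈ Subgroup.zpowers a := fun b hb =>
    mem_zpowers_of_card (D.card_induced hγ hmov) ha (fun h1 => ha1 (Subtype.ext h1)) hb
  let f : E →* E :=
    { toFun := fun e => a e * e⁻¹
      map_one' := by simp
      map_mul' := fun x y => by
        rw [map_mul, mul_inv_rev, D.hab y⁻¹ x⁻¹, mul_assoc (a x), ← mul_assoc (a y), D.hab (a y) x⁻¹]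
        group }
  have hker : Nat.card f.ker ≤ p ^ 2 := by
    rw [← D.hset.hcardZs]
    haveI : Finite Zs := finite_of_le ‹_› (zs_le_S D.hset)
    refine Nat.card_le_card_of_injective (fun e => (⟨(e : E), D.mem_zs_of_fixed hA (mul_inv_eq_one.1 e.2)⟩ : Zs)) ?_
    intro x y hxy
    exact Subtype.ext (Subtype.ext ((congrArg (fun z : Zs => (z : Ω)) hxy :)))
  have hrange : Nat.card f.range ≤ p := by
    rw [← D.card_z]
    exact Subgroup.card_le_of_le (by rintro _ ⟨e, rfl⟩; exact D.moves ha e)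
  have hle : Nat.card E ≤ p ^ 3 := by
    rw [← Subgroup.card_mul_index f.ker, Subgroup.index_ker, pow_succ p 2]
    exact Nat.mul_le_mul hker hrange
  obtain ⟨w, hw, hwn⟩ := D.exists_not_central hγ hmov
  have hlt : p ^ 2 < Nat.card E := by
    rw [← D.hset.hcardZs]
    haveI : Finite E := D.finE
    refine lt_of_le_of_ne (Subgroup.card_le_of_le D.zs_le) fun he => hwn ?_
    rw [Subgroup.eq_of_le_of_card_ge D.zs_le he.ge]
    exact w.2
  obtain ⟨n, hn⟩ := (D.hS.to_le D.hES).exists_card_eq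
  have hn3 : n = 3 := by
    rw [hn] at hle hlt
    have h1 := (Nat.pow_le_pow_iff_right (Fact.out : p.Prime).one_lt).1 hle
    have h2 := (Nat.pow_lt_pow_iff_right (Fact.out : p.Prime).one_lt).1 hlt
    omega
  subst hn3
  refine ⟨hn, ?_⟩
  have hC : centralizerIn S E = E := le_antisymm (D.hc.2 E (isConj_refl F D.hES)) fun e he =>
    mem_centralizerIn.2 ⟨D.hES he, fun y hy => congrArg Subtype.val (D.hab ⟨y, hy⟩ ⟨e, he⟩)⟩
  have hN : normalizerIn S E = S := inf_eq_left.2 D.hn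
  have := card_autInducedBy_mul (S := S) E
  rw [hC, hN, D.card_induced hγ hmov, hn] at this
  rw [← this, ← pow_succ']

/-- The line of a moved centre. -/
theorem line (hp : p ≠ 2) :
    Line F Z Zs ((Zs.subgroupOf E ⊓ (Zs.subgroupOf E).map γ.toMonoidHom).map E.subtype) := by
  haveI := D.finE
  set Y := Zs.subgroupOf E ⊓ (Zs.subgroupOf E).map γ.toMonoidHom with hY
  refine ⟨?_, ?_, ?_, ?_⟩
  · rintro _ ⟨e, he, rfl⟩
    exact he.1
  · intro hb
    have hYb : Y = ⊥ := (Subgroup.map_eq_bot_iff_of_injective _ E.subtype_injective).1 hb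
    set B := Zs.subgroupOf E
    have hB : Nat.card B = p ^ 2 := by
      rw [Nat.card_congr (Subgroup.subgroupOfEquivOfLe D.zs_le).toEquiv, D.hset.hcardZs]
    have hle : Nat.card (B × B.map γ.toMonoidHom) ≤ Nat.card E := by
      refine Nat.card_le_card_of_injective (fun w => (w.1 : E) * w.2) ?_
      rintro ⟨⟨x, hx⟩, ⟨y, hy⟩⟩ ⟨⟨x', hx'⟩, ⟨y', hy'⟩⟩ he
      simp only at he
      have h2 : x'⁻¹ * x = y' * y⁻¹ := by
        rw [eq_mul_inv_iff_mul_eq, mul_assoc, he, inv_mul_cancel_left]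
      have h3 : x'⁻¹ * x ∈ Y := Subgroup.mem_inf.2 ⟨mul_mem (InvMemClass.inv_mem hx') hx, h2 ▸ mul_mem hy' (InvMemClass.inv_mem hy)⟩
      rw [hYb, Subgroup.mem_bot] at h3
      obtain rfl : x = x' := (inv_mul_eq_one.1 h3).symm
      obtain rfl : y = y' := mul_left_cancel he
      rfl
    rw [Nat.card_prod, Subgroup.card_map_of_injective γ.injective, hB, (D.card_eq hγ hmov).1,
      ← pow_add] at hle
    have := (Nat.pow_le_pow_iff_right (Fact.out : p.Prime).one_lt).1 hle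
    omega
  · refine (Subgroup.eq_bot_iff_forall _).2 ?_
    rintro _ ⟨⟨e, ⟨-, c, hc, hce⟩, rfl⟩, heZ⟩
    by_contra he1
    obtain ⟨w, ⟨v, hv, hvw⟩, hwn⟩ := D.exists_not_central (InvMemClass.inv_mem hγ) (D.mover_symm hγ hmov)
    apply hwn
    obtain ⟨n, hn⟩ := mem_zpowers_of_card (p := p) D.card_z (z := e) heZ
      (fun h1 => he1 (congrArg Subtype.val h1)) hv
    subst hvw
    show (((γ⁻¹ : MulAut E) v : E) : Ω) ∈ Zs
    rw [← hn, show (fun k : ℤ => e ^ k) n = e ^ n from rfl, map_zpow, ← hce,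
      show (γ⁻¹ : MulAut E) (γ.toMonoidHom c) = c from γ.symm_apply_apply c, Subgroup.coe_zpow]
    exact zpow_mem hc n
  · obtain ⟨⟨a₀, ha₀⟩, ha₀1⟩ := Subgroup.ne_bot_iff_exists_ne_one.1 D.autInducedBy_ne_bot
    have ha₀1' : a₀ ≠ 1 := fun h1 => ha₀1 (Subtype.ext h1)
    have hA : ∀ b ∈ autInducedBy S E, b ∈ Subgroup.zpowers a₀ := fun b hb =>
      mem_zpowers_of_card (D.card_induced hγ hmov) ha₀ ha₀1' hb
    obtain ⟨w, hw, hwn⟩ := D.exists_not_central hγ hmov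
    -- the two centres
    have hw1 : w ≠ 1 := fun h1 => hwn (by rw [h1]; exact one_mem _)
    set z := a₀ w * w⁻¹ with hz
    have hz1 : z ≠ 1 := fun h1 => hwn (D.mem_zs_of_fixed hA (mul_inv_eq_one.1 h1))
    have hzZ : z ∈ Z.subgroupOf E := D.moves ha₀ w
    have haw : a₀ w = z * w := by rw [hz, inv_mul_cancel_right]
    have haz : a₀ z = z := D.fixes ha₀ (D.hset.hle hzZ)
    -- the opposite transvection
    set b := γ * a₀ * γ⁻¹ with hb
    have hbF : b ∈ F.autGroup E :=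
      mul_mem (mul_mem hγ (autInducedBy_le_autGroup F D.hES ha₀)) (InvMemClass.inv_mem hγ)
    have hbw : b w = w := by
      obtain ⟨c, hc, rfl⟩ := hw
      exact D.fixes_conj ha₀ (D.hset.hle hc)
    have hη : b z * z⁻¹ ≠ 1 := by
      intro h1
      have hbz : b z = z := mul_inv_eq_one.1 h1
      have hgen : ∀ x ∈ Z.subgroupOf E, b x = x := fun x hx => by
        obtain ⟨n, rfl⟩ := mem_zpowers_of_card D.card_z hzZ hz1 hx
        simp [map_zpow, hbz]
      obtain ⟨c, hc, hcc⟩ := D.moves_conj (γ := γ) ha₀ z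
      -- `b` fixes `z`, so `z` is central and so is its preimage
      have h2 : a₀ (γ⁻¹ z) = γ⁻¹ z := γ.injective (by
        show b z = γ (γ⁻¹ z)
        rw [hbz]
        exact (γ.apply_symm_apply z).symm)
      obtain ⟨w', hw', hwn'⟩ := D.exists_not_central (InvMemClass.inv_mem hγ) (D.mover_symm hγ hmov)
      obtain ⟨v, hv, rfl⟩ := hw'
      obtain ⟨n, rfl⟩ := mem_zpowers_of_card D.card_z hzZ hz1 hv
      apply hwn'
      have := zpow_mem (D.mem_zs_of_fixed hA h2) n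
      simpa [map_zpow] using this
    obtain ⟨k, hk⟩ : ∃ k : ℕ, (b z * z⁻¹) ^ k = w⁻¹ := by
      obtain ⟨n, hn⟩ := mem_zpowers_of_card D.card_map (D.moves_conj (γ := γ) ha₀ z) hη (InvMemClass.inv_mem hw)
      exact (isOfFinOrder_of_finite _).mem_powers_iff_mem_zpowers.2 ⟨n, hn⟩
    have hbfixη : b (b z * z⁻¹) = b z * z⁻¹ := by
      obtain ⟨c, hc, hcc⟩ := D.moves_conj (γ := γ) ha₀ z
      rw [← hcc]
      exact D.fixes_conj ha₀ (D.hset.hle hc)
    have hbk : ∀ n : ℕ, (b ^ n) z = z * (b z * z⁻¹) ^ n := by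
      intro n
      induction n with
      | zero => simp
      | succ n ih =>
        rw [pow_succ', MulAut.mul_apply, ih, map_mul, map_pow, hbfixη,
          show b z = z * (b z * z⁻¹) by rw [D.hab (b z) z⁻¹, mul_inv_cancel_left], mul_assoc,
          show z * (b z * z⁻¹) * z⁻¹ = b z * z⁻¹ by rw [D.hab z, mul_inv_cancel_right], ← pow_succ']
    set c := b ^ k with hc
    have hcz : c z = z * w⁻¹ := by rw [hc, hbk, hk]
    have hcw : c w = w := by
      have : ∀ n : ℕ, (b ^ n) w = w := fun n => by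
        induction n with
        | zero => rfl
        | succ n ih => rw [pow_succ', MulAut.mul_apply, ih, hbw]
      exact this k
    set u := a₀ * c * a₀
    have huz : u z = w⁻¹ := by
      show a₀ (c (a₀ z)) = _
      rw [haz, hcz, map_mul, map_inv, haz, haw, mul_inv_rev, D.hab w⁻¹, mul_inv_cancel_left]
    have huw : u w = z := by
      show a₀ (c (a₀ w)) = _
      rw [haw, map_mul, hcz, hcw, inv_mul_cancel_right, haz]
    set h := u * u with hh
    have hhz : h z = z⁻¹ := by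
      show u (u z) = _
      rw [huz, map_inv, huw]
    have hhw : h w = w⁻¹ := by
      show u (u w) = _
      rw [huw, huz]
    have hhF : h ∈ F.autGroup E :=
      mul_mem (mul_mem (mul_mem (autInducedBy_le_autGroup F D.hES ha₀) (pow_mem hbF k))
        (autInducedBy_le_autGroup F D.hES ha₀)) (mul_mem (mul_mem (autInducedBy_le_autGroup F D.hES ha₀) (pow_mem hbF k))
        (autInducedBy_le_autGroup F D.hES ha₀))
    have hfixY : ∀ y ∈ Y, h y = y := by
      rintro y ⟨hy, c', hc', rfl⟩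
      have h1 : a₀ (γ.toMonoidHom c') = γ.toMonoidHom c' := D.fixes ha₀ hy
      have h2 : b (γ.toMonoidHom c') = γ.toMonoidHom c' := D.fixes_conj ha₀ hc'
      have h3 : c (γ.toMonoidHom c') = γ.toMonoidHom c' :=
        (MulAction.mem_stabilizer_iff.1 (pow_mem (MulAction.mem_stabilizer_iff.2
          (show b • γ.toMonoidHom c' = γ.toMonoidHom c' from h2)) k) :)
      show a₀ (c (a₀ (a₀ (c (a₀ _))))) = _
      rw [h1, h3, h1, h1, h3, h1]
    have hhZ : ∀ x ∈ Z.subgroupOf E, h x = x⁻¹ := fun x hx => by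
      obtain ⟨n, rfl⟩ := mem_zpowers_of_card D.card_z hzZ hz1 hx
      simp [map_zpow, hhz]
    have hnorm : ∀ a ∈ autInducedBy S E, h * a * h⁻¹ ∈ autInducedBy S E :=
      fun a ha => D.normalizes hhF (by
        refine Subgroup.eq_of_le_of_card_ge ?_ (by rw [D.card_map, D.card_z])
        rintro _ ⟨x, hx, rfl⟩
        show h x ∈ _
        rw [hhZ x hx]
        exact InvMemClass.inv_mem hx) ha
    obtain ⟨β, hβ, hβe⟩ := D.extends_top hhF hnorm
    refine ⟨β, hβ, fun s hs => Subtype.ext ?_, fun s hs => Subtype.ext ?_⟩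
    · have := hβe ⟨s, D.z_le hs⟩
      rw [hhZ _ (show (⟨(s : Ω), D.z_le hs⟩ : E) ∈ Z.subgroupOf E from hs)] at this
      exact this
    · obtain ⟨e, he, hes⟩ := hs
      have := hβe e
      rw [hfixY e he] at this
      rw [show (⟨(e : Ω), D.hES e.2⟩ : S) = s from Subtype.ext hes] at this
      exact this.trans hes

end Moved

end Ess

end Cfsg.Agent.FusionQd.CentralLine
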