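import Cfsg.Agent.FusionQd.CentralLineMain
import Cfsg.Agent.FusionAlperin.NormalCriteria
import Cfsg.Agent.PGroup.Basic

/-!
# Systems on a group with an extraspecial subgroup of index `p`
-/

set_option autoImplicit false
set_option linter.all false

open Cfsg Cfsg.FusionSystem Cfsg.Agent.FusionSys
open scoped commutatorElement

namespace Cfsg.Agent.FusionQd

universe u

variable {Ω : Type u} [Group Ω] {S : Subgroup Ω} [Finite S] {p : ℕ} [Fact p.Prime]

theorem setting_of_center_ne (hS : IsPGroup p S) (Q : Subgroup Ω) (hQS : Q ≤ S)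
    (hQ : Cfsg.IsExtraspecial p ↥Q) (hQi : (Q.subgroupOf S).index = p)
    (hne : S ⊓ Subgroup.centralizer (S : Set Ω) ≠ Q ⊓ Subgroup.centralizer (Q : Set Ω)) :
    CentralLine.Setting S (Q ⊓ Subgroup.centralizer (Q : Set Ω)) (S ⊓ Subgroup.centralizer (S : Set Ω)) p ∧
      ∀ γ : MulAut S, ∀ s : S, (s : Ω) ∈ Q ⊓ Subgroup.centralizer (Q : Set Ω) →
        ((γ s : S) : Ω) ∈ Q ⊓ Subgroup.centralizer (Q : Set Ω) := by
  set Z := Q ⊓ Subgroup.centralizer (Q : Set Ω) with hZ
  set Zs := S ⊓ Subgroup.centralizer (S : Set Ω) with hZs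
  have hQn : (Q.subgroupOf S).Normal :=
    Cfsg.Agent.PGroup.normal_of_isCoatom hS (by
      refine ⟨fun h => (Fact.out : p.Prime).ne_one (by rw [← hQi, h, Subgroup.index_top]), fun b hb => ?_⟩
      have h1 := Subgroup.index_dvd_of_le hb.le
      rw [hQi, Nat.dvd_prime Fact.out] at h1
      rcases h1 with h1 | h1
      · exact Subgroup.index_eq_one.1 h1
      · exact absurd (Subgroup.eq_of_le_of_card_ge hb.le (by
          have e1 := Subgroup.card_mul_index b
          have e2 := Subgroup.card_mul_index (Q.subgroupOf S)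
          rw [h1, ← e2, hQi] at e1
          exact (Nat.eq_of_mul_eq_mul_right (Fact.out : p.Prime).pos e1).le)) hb.ne)
  have hQconj : ∀ g ∈ S, ∀ x ∈ Q, g * x * g⁻¹ ∈ Q := fun g hg x hx =>
    hQn.conj_mem ⟨x, hQS hx⟩ hx ⟨g, hg⟩
  have hZmap : (Subgroup.center Q).map Q.subtype = Z := by
    ext x
    constructor
    · rintro ⟨y, hy, rfl⟩
      exact ⟨y.2, Subgroup.mem_centralizer_iff.2 fun q hq =>
        congrArg Subtype.val (Subgroup.mem_center_iff.1 hy ⟨q, hq⟩)⟩
    · rintro ⟨hx, hx'⟩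
      exact ⟨⟨x, hx⟩, Subgroup.mem_center_iff.2 fun q =>
        Subtype.ext (Subgroup.mem_centralizer_iff.1 hx' q q.2), rfl⟩
  have hcZ : Nat.card Z = p := by
    rw [← hZmap, Subgroup.card_map_of_injective Q.subtype_injective, hQ.2]
  have hZS : Z ≤ S := inf_le_left.trans hQS
  have hZn : (Z.subgroupOf S).Normal := by
    refine ⟨fun x hx g => ?_⟩
    obtain ⟨hxQ, hxC⟩ : (x : Ω) ∈ Z := hx
    refine ⟨hQconj g g.2 _ hxQ, Subgroup.mem_centralizer_iff.2 fun q hq => ?_⟩
    have hq' := hQconj (g : Ω)⁻¹ (S.inv_mem g.2) q hq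
    have h1 := Subgroup.mem_centralizer_iff.1 hxC _ hq'
    rw [inv_inv] at h1
    calc q * ((g : Ω) * x * (g : Ω)⁻¹) = g * ((g : Ω)⁻¹ * q * g * x) * (g : Ω)⁻¹ := by group
      _ = g * (x * ((g : Ω)⁻¹ * q * g)) * (g : Ω)⁻¹ := by rw [h1]
      _ = (g : Ω) * x * (g : Ω)⁻¹ * q := by group
  have hle : Z ≤ Zs := by
    intro z hz
    have hc := Cfsg.Agent.PGroup.le_center_of_card_eq hS (N := Z.subgroupOf S)
      (by rw [Nat.card_congr (Subgroup.subgroupOfEquivOfLe hZS).toEquiv, hcZ])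
      (show (⟨z, hZS hz⟩ : S) ∈ Z.subgroupOf S from hz)
    exact ⟨hZS hz, Subgroup.mem_centralizer_iff.2 fun s hs =>
      congrArg Subtype.val (Subgroup.mem_center_iff.1 hc ⟨s, hs⟩)⟩
  haveI : Finite Zs := finite_of_le ‹_› inf_le_left
  have hker : (Q.subgroupOf S).subgroupOf (Zs.subgroupOf S) = (Z.subgroupOf S).subgroupOf (Zs.subgroupOf S) := by
    ext x
    refine ⟨fun hx => ⟨hx, Subgroup.mem_centralizer_iff.2 fun q hq => ?_⟩, fun hx => hx.1⟩
    exact Subgroup.mem_centralizer_iff.1 x.2.2 q (hQS hq)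
  obtain ⟨c, hcS, hcQ⟩ : ∃ c ∈ Zs, c ∉ Q := by
    by_contra hall
    push Not at hall
    refine hne (le_antisymm (fun x hx => ⟨hall x hx, Subgroup.mem_centralizer_iff.2 fun q hq =>
      Subgroup.mem_centralizer_iff.1 hx.2 q (hQS hq)⟩) hle)
  have hcZs : Nat.card Zs = p ^ 2 := by
    have h1 := Subgroup.card_mul_index ((Z.subgroupOf S).subgroupOf (Zs.subgroupOf S))
    rw [Nat.card_congr (Subgroup.subgroupOfEquivOfLe (H := Z.subgroupOf S) (K := Zs.subgroupOf S)
      (fun x hx => hle hx)).toEquiv, Nat.card_congr (Subgroup.subgroupOfEquivOfLe hZS).toEquiv, hcZ,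
      Nat.card_congr (Subgroup.subgroupOfEquivOfLe (inf_le_left : Zs ≤ S)).toEquiv, ← hker] at h1
    have h2 : (Q.subgroupOf S).relIndex (Zs.subgroupOf S) ∣ p := hQi ▸ Subgroup.relIndex_dvd_index_of_normal _ _
    rcases (Nat.dvd_prime Fact.out).1 h2 with h3 | h3
    · exact absurd ((Subgroup.relIndex_eq_one.1 h3) (show (⟨c, hcS.1⟩ : S) ∈ Zs.subgroupOf S from hcS)) hcQ
    · rw [← h1, sq]
      exact congrArg _ h3
  have hdecomp : ∀ a ∈ S, ∃ q ∈ Q, ∃ d ∈ Zs, a = q * d := by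
    intro a ha
    have hne1 : QuotientGroup.mk' (Q.subgroupOf S) ⟨c, hcS.1⟩ ≠ 1 :=
      fun h1 => hcQ ((QuotientGroup.eq_one_iff (N := Q.subgroupOf S) (⟨c, hcS.1⟩ : S)).1 h1)
    obtain ⟨n, hn⟩ := mem_zpowers_of_prime_card (g' := QuotientGroup.mk' (Q.subgroupOf S) ⟨a, ha⟩)
      (show Nat.card (S ⧸ Q.subgroupOf S) = p from hQi) hne1
    have hn' : QuotientGroup.mk' (Q.subgroupOf S) (⟨c, hcS.1⟩ ^ n) = QuotientGroup.mk' (Q.subgroupOf S) ⟨a, ha⟩ := by
      rw [map_zpow]; exact hn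
    have hm : ((⟨a, ha⟩ : S) * (⟨c, hcS.1⟩ ^ n)⁻¹) ∈ Q.subgroupOf S := by
      refine (QuotientGroup.eq_one_iff _).1 ?_
      rw [← QuotientGroup.mk'_apply, map_mul, map_inv, hn', mul_inv_cancel]
    refine ⟨a * (c ^ n)⁻¹, ?_, c ^ n, zpow_mem hcS n, (inv_mul_cancel_right _ _).symm⟩
    simpa [Subgroup.mem_subgroupOf] using hm
  have hcomm : ∀ a ∈ S, ∀ b ∈ S, a * b * a⁻¹ * b⁻¹ ∈ Z := by
    intro a ha b hb
    obtain ⟨q, hq, d, hd, rfl⟩ := hdecomp a ha
    obtain ⟨r, hr, e, he, rfl⟩ := hdecomp b hb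
    have hdc : ∀ s ∈ S, s * d = d * s := fun s hs => Subgroup.mem_centralizer_iff.1 hd.2 s hs
    have hec : ∀ s ∈ S, s * e = e * s := fun s hs => Subgroup.mem_centralizer_iff.1 he.2 s hs
    have hkey : q * d * (r * e) * (q * d)⁻¹ * (r * e)⁻¹ = q * r * q⁻¹ * r⁻¹ := by
      calc q * d * (r * e) * (q * d)⁻¹ * (r * e)⁻¹
          = q * (d * (r * e)) * d⁻¹ * q⁻¹ * e⁻¹ * r⁻¹ := by group
        _ = q * (r * e) * q⁻¹ * e⁻¹ * r⁻¹ := by
            rw [← hdc (r * e) (S.mul_mem (hQS hr) he.1)]; group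
        _ = q * r * (e * q⁻¹) * e⁻¹ * r⁻¹ := by group
        _ = q * r * q⁻¹ * r⁻¹ := by rw [← hec q⁻¹ (S.inv_mem (hQS hq))]; group
    rw [hkey, ← hZmap]
    refine ⟨⁅(⟨q, hq⟩ : Q), ⟨r, hr⟩⁆, ?_, rfl⟩
    rw [← hQ.1.2.2, _root_.commutator_def]
    exact Subgroup.commutator_mem_commutator (Subgroup.mem_top _) (Subgroup.mem_top _)
  refine ⟨⟨fun x => ?_, hle, hcZ, hcZs, hcomm⟩, fun γ s hs => ?_⟩
  · exact ⟨fun hx => ⟨hx.1, fun t ht => Subgroup.mem_centralizer_iff.1 hx.2 t ht⟩,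
      fun hx => ⟨hx.1, Subgroup.mem_centralizer_iff.2 fun t ht => hx.2 t ht⟩⟩
  · -- `Z` is the derived subgroup of `S`
    have hcs : commutator S ≤ Z.subgroupOf S := by
      rw [_root_.commutator_def, Subgroup.commutator_le]
      intro a _ b _
      exact hcomm a a.2 b b.2
    have hsc : Z ≤ (commutator S).map S.subtype := by
      rw [← hZmap, ← hQ.1.2.2, _root_.commutator_def, _root_.commutator_def, Subgroup.map_commutator,
        Subgroup.map_commutator, ← MonoidHom.range_eq_map, Subgroup.range_subtype,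
        ← MonoidHom.range_eq_map, Subgroup.range_subtype]
      exact Subgroup.commutator_mono hQS hQS
    obtain ⟨t, ht, hts⟩ := hsc hs
    obtain rfl : t = s := Subtype.ext hts
    exact hcs ((Subgroup.characteristic_iff_le_comap.1 inferInstance γ) ht)

/-- If the centre of `S` is larger than that of `Q`, some nontrivial subgroup is normal. -/
theorem center_eq (hp : Odd p) (hS : IsPGroup p S) (Q : Subgroup Ω) (hQS : Q ≤ S)
    (hQ : Cfsg.IsExtraspecial p ↥Q) (hQi : (Q.subgroupOf S).index = p)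
    (F : FusionSystem S) (hF : F.IsSaturated p) (hO : F.core = ⊥) :
    S ⊓ Subgroup.centralizer (S : Set Ω) = Q ⊓ Subgroup.centralizer (Q : Set Ω) := by
  by_contra hne
  have hp2 : p ≠ 2 := fun h => by rw [h] at hp; exact absurd hp (by decide)
  obtain ⟨hset, hchar⟩ := setting_of_center_ne hS Q hQS hQ hQi hne
  set Z := Q ⊓ Subgroup.centralizer (Q : Set Ω)
  set Zs := S ⊓ Subgroup.centralizer (S : Set Ω)
  have hZS : Z ≤ S := inf_le_left.trans hQS
  have hZaut : ∀ β ∈ F.autGroup S, ∀ s : S, (s : Ω) ∈ Z → ((β s : S) : Ω) ∈ Z := fun β _ => hchar β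
  have noNormal : ∀ X : Subgroup Ω, X ≠ ⊥ → ¬ F.IsNormal X := fun X hX hN =>
    hX (eq_bot_iff.2 (hO ▸ le_sSup hN))
  have hmapeq : ∀ (P R : Subgroup Ω) [Finite P] (α : MulAut P), R ≤ P →
      (∀ x : P, (x : Ω) ∈ R → ((α x : P) : Ω) ∈ R) →
      (R.subgroupOf P).map α.toMonoidHom = R.subgroupOf P := by
    intro P R _ α hRP h
    refine Subgroup.eq_of_le_of_card_ge ?_ (Subgroup.card_map_of_injective α.injective).ge
    rintro _ ⟨x, hx, rfl⟩
    exact h x hx
  have hEss : ∀ E, F.IsEssential p E → (∀ x y : E, x * y = y * x) → CentralLine.Ess F Z Zs E p :=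
    fun E hE hab => ⟨hF, hS, hset, hE.1, essential_ne_self hS hF hE, hab⟩
  by_cases hmove : ∃ E, F.IsEssential p E ∧ (∀ x y : E, x * y = y * x) ∧
      ∃ γ ∈ F.autGroup E, (Z.subgroupOf E).map γ.toMonoidHom ≠ Z.subgroupOf E
  · obtain ⟨E, hE, hab, γ, hγ, hmov⟩ := hmove
    have D := hEss E hE hab
    have hL := D.line hγ hmov hp2
    set X := (Zs.subgroupOf E ⊓ (Zs.subgroupOf E).map γ.toMonoidHom).map E.subtype
    have hS4 := (D.card_eq hγ hmov).2
    refine noNormal X hL.hne (FusionAlperin.isNormal_of_autGroups hS hF fun P hP => ?_)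
    rcases hP with rfl | hP
    · exact ⟨hL.hle.trans (CentralLine.zs_le_S hset), fun α hα => hmapeq _ _ α
        (hL.hle.trans (CentralLine.zs_le_S hset)) (hL.invariant hS hF hp2 hset hZaut α hα)⟩
    have hZsP := CentralLine.le_essential hset hP.1
    have hPS := hP.1.1
    haveI : Finite P := finite_of_le ‹_› hPS
    -- small, so abelian
    have habP : ∀ x y : P, x * y = y * x := by
      have hcard : Nat.card P ≤ p ^ 3 := by
        obtain ⟨n, hn⟩ := (hS.to_le hPS).exists_card_eq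
        rw [hn]
        refine Nat.pow_le_pow_right (Fact.out : p.Prime).pos ?_
        by_contra hn3
        refine essential_ne_self hS hF hP (Subgroup.eq_of_le_of_card_ge hPS ?_)
        rw [hS4, hn]
        exact Nat.pow_le_pow_right (Fact.out : p.Prime).pos (by omega)
      have hK : Zs.subgroupOf P ≤ Subgroup.center P := fun x hx => Subgroup.mem_center_iff.2 fun y =>
        Subtype.ext (((hset.hZs _).1 hx).2 y (hPS y.2))
      haveI : (Zs.subgroupOf P).Normal := ⟨fun x hx g => by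
        rw [Subgroup.mem_center_iff.1 (hK hx) g, mul_inv_cancel_right]; exact hx⟩
      have hidx : (Zs.subgroupOf P).index ∣ p := by
        have h1 := Subgroup.card_mul_index (Zs.subgroupOf P)
        rw [Nat.card_congr (Subgroup.subgroupOfEquivOfLe hZsP).toEquiv, hset.hcardZs] at h1
        obtain ⟨n, hn⟩ := (hS.to_le hPS).exists_card_eq
        rw [hn] at h1 hcard
        have hn3 := (Nat.pow_le_pow_iff_right (Fact.out : p.Prime).one_lt).1 hcard
        have h2 : p ^ 2 * (Zs.subgroupOf P).index ∣ p ^ 3 := h1 ▸ pow_dvd_pow p hn3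
        rw [pow_succ p 2] at h2
        exact Nat.dvd_of_mul_dvd_mul_left (pow_pos (Fact.out : p.Prime).pos 2) h2
      haveI : IsCyclic (P ⧸ Zs.subgroupOf P) := by
        rcases (Nat.dvd_prime Fact.out).1 hidx with h1 | h1
        · haveI : Subsingleton (P ⧸ Zs.subgroupOf P) :=
            Finite.card_le_one_iff_subsingleton.1 (le_of_eq h1)
          infer_instance
        · exact isCyclic_of_prime_card h1
      exact fun x y => commutative_of_cyclic_center_quotient (QuotientGroup.mk' (Zs.subgroupOf P))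
        (by rw [QuotientGroup.ker_mk']; exact hK) x y
    have DP := hEss P hP habP
    refine ⟨hL.hle.trans hZsP, fun δ hδ => hmapeq _ _ δ (hL.hle.trans hZsP) ?_⟩
    by_cases hδm : (Z.subgroupOf P).map δ.toMonoidHom = Z.subgroupOf P
    · obtain ⟨β, hβ, hβe⟩ := DP.extends_top hδ fun a ha => DP.normalizes hδ hδm ha
      intro x hx
      rw [← hβe x]
      exact hL.invariant hS hF hp2 hset hZaut β hβ ⟨x, hPS x.2⟩ hx
    · -- the line is the intersection for every mover
      have hLδ := DP.line hδ hδm hp2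
      have hLδ' := DP.line (InvMemClass.inv_mem hδ) (DP.mover_symm hδ hδm) hp2
      intro x hx
      have h1 := hLδ'.unique hS hF hp2 hset hZaut hL
      have h2 := hL.unique hS hF hp2 hset hZaut hLδ
      obtain ⟨e, he, hee⟩ := h1 hx
      refine h2 ⟨δ x, ⟨?_, ?_⟩, rfl⟩
      · obtain ⟨-, c, hc, hce⟩ := he
        have hxe : x = e := Subtype.ext hee.symm
        rw [hxe, ← hce, show δ ((δ⁻¹ : MulAut P).toMonoidHom c) = c from δ.apply_symm_apply c]
        exact hc
      · exact ⟨x, hL.hle hx, rfl⟩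
  · push Not at hmove
    refine noNormal Z (fun h => ?_) (FusionAlperin.isNormal_of_autGroups hS hF fun P hP => ?_)
    · have := hset.hcardZ
      rw [h, Subgroup.card_bot] at this
      exact (Fact.out : p.Prime).ne_one this.symm
    rcases hP with rfl | hP
    · exact ⟨hZS, fun α hα => hmapeq _ _ α hZS (hZaut α hα)⟩
    have hPS := hP.1.1
    haveI : Finite P := finite_of_le ‹_› hPS
    have hZP : Z ≤ P := hset.hle.trans (CentralLine.le_essential hset hP.1)
    refine ⟨hZP, fun α hα => ?_⟩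
    by_cases hab : ∀ x y : P, x * y = y * x
    · exact hmove P hP hab α hα
    push Not at hab
    obtain ⟨x, y, hxy⟩ := hab
    have hc : commutator P ≤ Z.subgroupOf P := by
      rw [_root_.commutator_def, Subgroup.commutator_le]
      exact fun a _ b _ => hset.hcomm a (hPS a.2) b (hPS b.2)
    have hxym : ⁅x, y⁆ ∈ commutator P :=
      Subgroup.commutator_mem_commutator (Subgroup.mem_top x) (Subgroup.mem_top y)
    refine hmapeq _ _ α hZP fun z hz => ?_
    have h1 : z ∈ Subgroup.zpowers ⁅x, y⁆ := CentralLine.mem_zpowers_of_card (p := p)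
      (A := Z.subgroupOf P) (by rw [Nat.card_congr (Subgroup.subgroupOfEquivOfLe hZP).toEquiv, hset.hcardZ])
      (hc hxym) (fun h1 => hxy (commutatorElement_eq_one_iff_mul_comm.1 h1)) hz
    obtain ⟨n, rfl⟩ := h1
    show ((α (⁅x, y⁆ ^ n) : P) : Ω) ∈ Z
    rw [map_zpow, Subgroup.coe_zpow]
    exact zpow_mem (hc ((Subgroup.characteristic_iff_le_comap.1 inferInstance α) hxym)) n

end Cfsg.Agent.FusionQd
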