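import Cfsg.Agent.FusionSys.Essential
import Cfsg.Agent.FusionSys.EssentialFlag
import Cfsg.Agent.PGroup.Basic

/-!
# No proper essential subgroups inside an extraspecial subgroup of index `p`
-/

set_option autoImplicit false
set_option linter.all false

open Cfsg Cfsg.FusionSystem Cfsg.Agent.FusionSys
open scoped commutatorElement

namespace Cfsg.Agent.FusionQd

/-- Automorphisms moving everything by elements of `W` and fixing `W`. -/
def transGroup {H : Type*} [Group H] (W : Subgroup H) : Subgroup (MulAut H) where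
  carrier := {a | (∀ e, a e * e⁻¹ ∈ W) ∧ ∀ w ∈ W, a w = w}
  one_mem' := ⟨fun e => by simp, fun w _ => rfl⟩
  mul_mem' := by
    rintro a b ⟨ha, ha'⟩ ⟨hb, hb'⟩
    refine ⟨fun e => ?_, fun w hw => by rw [MulAut.mul_apply, hb' w hw, ha' w hw]⟩
    have := W.mul_mem (ha (b e)) (hb e)
    simpa [mul_assoc] using this
  inv_mem' := by
    rintro a ⟨ha, ha'⟩
    refine ⟨fun e => ?_, fun w hw => a.injective ((a.apply_symm_apply w).trans (ha' w hw).symm)⟩
    have h1 := W.inv_mem (ha (a.symm e))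
    rw [a.apply_symm_apply, mul_inv_rev, inv_inv] at h1
    exact h1

theorem transGroup_pow_eq_one {H : Type*} [Group H] {W : Subgroup H} {p : ℕ}
    (hW : Nat.card W = p) {a : MulAut H} (ha : a ∈ transGroup W) : a ^ p = 1 := by
  refine MulEquiv.ext fun e => ?_
  set w := a e * e⁻¹ with hw
  have key : ∀ n : ℕ, (a ^ n) e = w ^ n * e := by
    intro n
    induction n with
    | zero => simp
    | succ n ih =>
      rw [pow_succ', MulAut.mul_apply, ih, map_mul, map_pow, ha.2 w (ha.1 e),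
        show a e = w * e by rw [hw, inv_mul_cancel_right], ← mul_assoc, ← pow_succ]
  have h1 : w ^ p = 1 := by
    have := pow_card_eq_one' (x := (⟨w, ha.1 e⟩ : W))
    rw [hW] at this
    exact congrArg Subtype.val this
  rw [key, h1, one_mul]
  rfl

universe u

variable {Ω : Type u} [Group Ω] {S : Subgroup Ω} [Finite S] {p : ℕ} [Fact p.Prime]

theorem essential_le_extraspecial_eq (hS : IsPGroup p S)
    (Q : Subgroup Ω) (hQS : Q ≤ S) (hQ : Cfsg.IsExtraspecial p ↥Q) (hQi : (Q.subgroupOf S).index = p)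
    (h6 : p ^ 6 ≤ Nat.card S) (F : FusionSystem S) (hF : F.IsSaturated p)
    (E : Subgroup Ω) (hEQ : E ≤ Q) (hE : F.IsEssential p E) : E = Q := by
  classical
  haveI : Finite Q := finite_of_le ‹_› hQS
  have hES : E ≤ S := hEQ.trans hQS
  haveI : Finite E := finite_of_le ‹_› hES
  set Z := Q ⊓ Subgroup.centralizer (Q : Set Ω)
  have hZmap : (Subgroup.center Q).map Q.subtype = Z := by
    ext x
    constructor
    · rintro ⟨y, hy, rfl⟩
      exact ⟨y.2, Subgroup.mem_centralizer_iff.2 fun q hq =>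
        congrArg Subtype.val (Subgroup.mem_center_iff.1 hy ⟨q, hq⟩)⟩
    · rintro ⟨hx, hx'⟩
      exact ⟨⟨x, hx⟩, Subgroup.mem_center_iff.2 fun q =>
        Subtype.ext (Subgroup.mem_centralizer_iff.1 hx' q q.2), rfl⟩
  have hcZ : Nat.card Z = p := by
    rw [← hZmap, Subgroup.card_map_of_injective Q.subtype_injective, hQ.2]
  have hZc : ∀ z ∈ Z, ∀ q ∈ Q, q * z = z * q := fun z hz q hq =>
    Subgroup.mem_centralizer_iff.1 hz.2 q hq
  have hcomm : ∀ a ∈ Q, ∀ b ∈ Q, a * b * a⁻¹ * b⁻¹ ∈ Z := fun a ha b hb => by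
    rw [← hZmap]
    refine ⟨⁅(⟨a, ha⟩ : Q), ⟨b, hb⟩⁆, ?_, rfl⟩
    rw [← hQ.1.2.2, _root_.commutator_def]
    exact Subgroup.commutator_mem_commutator (Subgroup.mem_top _) (Subgroup.mem_top _)
  have hZE : Z ≤ E := fun z hz => hE.1.2 E (isConj_refl F hES)
    (mem_centralizerIn.2 ⟨hQS hz.1, fun y hy => hZc z hz y (hEQ hy)⟩)
  have hEn : ∀ g ∈ Q, ∀ e ∈ E, g * e * g⁻¹ ∈ E := fun g hg e he => by
    have := E.mul_mem (hZE (hcomm g hg e (hEQ he))) he
    simpa [mul_assoc] using this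
  have hQN : Q ≤ Subgroup.normalizer (E : Set Ω) := fun g hg => Subgroup.mem_normalizer_iff.2 fun e =>
    ⟨hEn g hg e, fun he => by
      have := hEn g⁻¹ (Q.inv_mem hg) _ he
      simpa [mul_assoc] using this⟩
  set W := Z.subgroupOf E with hW
  have hcW : Nat.card W = p := by
    rw [Nat.card_congr (Subgroup.subgroupOfEquivOfLe hZE).toEquiv, hcZ]
  have hWgen : ∀ {z : E}, z ∈ W → z ≠ 1 → ∀ x ∈ W, x ∈ Subgroup.zpowers z := by
    intro z hz hz1 x hx
    obtain ⟨n, hn⟩ := mem_zpowers_of_prime_card (g := (⟨z, hz⟩ : W)) (g' := ⟨x, hx⟩) hcW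
      fun h1 => hz1 (congrArg Subtype.val h1)
    exact ⟨n, congrArg Subtype.val hn⟩
  by_cases hab : ∀ x y : E, x * y = y * x
  swap
  · -- the centre is invariant
    push Not at hab
    obtain ⟨x, y, hxy⟩ := hab
    have hc : commutator E ≤ W := by
      rw [_root_.commutator_def, Subgroup.commutator_le]
      exact fun a _ b _ => hcomm a (hEQ a.2) b (hEQ b.2)
    have hxym : ⁅x, y⁆ ∈ commutator E :=
      Subgroup.commutator_mem_commutator (Subgroup.mem_top x) (Subgroup.mem_top y)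
    have hinv : ∀ a : MulAut E, ∀ z : E, (z : Ω) ∈ Z → ((a z : E) : Ω) ∈ Z := fun a z hz => by
      obtain ⟨n, rfl⟩ := hWgen (hc hxym) (fun h1 => hxy (commutatorElement_eq_one_iff_mul_comm.1 h1)) z hz
      show a (⁅x, y⁆ ^ n) ∈ W
      rw [map_zpow]
      exact zpow_mem (hc ((Subgroup.characteristic_iff_le_comap.1 inferInstance a) hxym)) n
    refine le_antisymm hEQ fun g hg => ?_
    refine FusionAux.mem_of_stabilizes hS hE.1 (FusionAlperin.isRadical_of_essential hS hE)
      (fun i => if i = 0 then ⊥ else if i = 1 then Z else Q) 2 rfl hEQ ?_ ?_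
      (show g ∈ normalizerIn S E from ⟨hQS hg, hQN hg⟩) ?_
    · refine monotone_nat_of_le_succ fun i => ?_
      rcases i with _ | _ | i
      · exact bot_le
      · exact inf_le_left
      · exact le_rfl
    · intro i hi a _ e he
      interval_cases i
      · have h1 : (e : Ω) = 1 := Subgroup.mem_bot.1 he
        show ((a e : E) : Ω) ∈ (⊥ : Subgroup Ω)
        rw [show e = 1 from Subtype.ext h1, map_one]
        exact Subgroup.mem_bot.2 rfl
      · exact hinv a e he
      · exact hEQ (a e).2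
    · intro i hi e he hei
      interval_cases i
      · have hz : e ∈ Z := hei
        show e⁻¹ * (g * e * g⁻¹) ∈ (⊥ : Subgroup Ω)
        rw [hZc e hz g hg, mul_inv_cancel_right, inv_mul_cancel]
        exact one_mem _
      · show e⁻¹ * (g * e * g⁻¹) ∈ Z
        have := hcomm e⁻¹ (Q.inv_mem (hEQ he)) g hg
        simpa [mul_assoc] using this
  -- the abelian case is impossible
  exfalso
  have hcard : Nat.card Q * p = Nat.card S := by
    rw [← hQi, ← Subgroup.card_mul_index (Q.subgroupOf S),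
      Nat.card_congr (Subgroup.subgroupOfEquivOfLe hQS).toEquiv]
  have hQ5 : p ^ 5 ≤ Nat.card Q :=
    Nat.le_of_mul_le_mul_right (by rw [hcard, ← pow_succ]; exact h6) (Fact.out : p.Prime).pos
  set A := autInducedBy Q E with hA
  have hAF : A ≤ F.autGroup E := (autInducedBy_mono hQS E).trans (autInducedBy_le_autGroup F hES)
  have hAT : A ≤ transGroup W := by
    intro a ha
    obtain ⟨g, hg, he⟩ := mem_autInducedBy.1 ha
    refine ⟨fun e => ?_, fun w hw => Subtype.ext ?_⟩
    · show ((a e : E) : Ω) * (e : Ω)⁻¹ ∈ Z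
      rw [he e]
      exact hcomm g hg e (hEQ e.2)
    · rw [he w, hZc (w : Ω) hw g hg, mul_inv_cancel_right]
  have hbig : p < Nat.card A := by
    by_contra hsmall
    push Not at hsmall
    obtain ⟨a, haA, hgen⟩ : ∃ a ∈ A, ∀ b ∈ A, b ∈ Subgroup.zpowers a := by
      by_cases hA1 : A = ⊥
      · exact ⟨1, one_mem _, fun b hb => by rw [hA1, Subgroup.mem_bot] at hb; rw [hb]; exact one_mem _⟩
      obtain ⟨n, hn⟩ := (isPGroup_autInducedBy (hS.to_le hQS) E : IsPGroup p A).exists_card_eq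
      have hp : Nat.card A = p := by
        rcases n with _ | n
        · exact absurd (Subgroup.card_eq_one.1 (hn.trans (pow_zero p))) hA1
        · exact le_antisymm hsmall (hn ▸ Nat.le_self_pow n.succ_ne_zero p)
      obtain ⟨⟨a, ha⟩, ha1⟩ := Subgroup.ne_bot_iff_exists_ne_one.1 hA1
      refine ⟨a, ha, fun b hb => ?_⟩
      obtain ⟨m, hm⟩ := mem_zpowers_of_prime_card (g' := (⟨b, hb⟩ : A)) hp ha1
      exact ⟨m, congrArg Subtype.val hm⟩
    have hfix : ∀ e : E, a e = e → (e : Ω) ∈ Z := by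
      intro e he
      refine ⟨hEQ e.2, Subgroup.mem_centralizer_iff.2 fun g hg => ?_⟩
      obtain ⟨m, hm⟩ := hgen (E.normalizerMonoidHom ⟨g, hQN hg⟩) (mem_autInducedBy.2 ⟨g, hg, fun _ => rfl⟩)
      have h1 : E.normalizerMonoidHom ⟨g, hQN hg⟩ e = e := by
        rw [← hm]
        exact MulAction.mem_stabilizer_iff.1
          (zpow_mem (MulAction.mem_stabilizer_iff.2 (show a • e = e from he)) m)
      have h2 : g * (e : Ω) * g⁻¹ = e := congrArg Subtype.val h1
      exact (eq_mul_inv_iff_mul_eq.1 h2.symm).symm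
    let f : E →* E :=
      { toFun := fun e => a e * e⁻¹
        map_one' := by simp
        map_mul' := fun x y => by
          rw [map_mul, mul_inv_rev, hab y⁻¹ x⁻¹, mul_assoc (a x), ← mul_assoc (a y), hab (a y) x⁻¹]
          group }
    have hk : Nat.card f.ker ≤ p := by
      rw [← hcW]
      exact Subgroup.card_le_of_le fun e he => hfix e (mul_inv_eq_one.1 he)
    have hr : Nat.card f.range ≤ p := by
      rw [← hcW]
      exact Subgroup.card_le_of_le (by rintro _ ⟨e, rfl⟩; exact (hAT haA).1 e)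
    have hEle : Nat.card E ≤ p * p := by
      rw [← Subgroup.card_mul_index f.ker, Subgroup.index_ker]
      exact Nat.mul_le_mul hk hr
    have h1 := card_autInducedBy_mul (S := Q) E
    have hN : normalizerIn Q E = Q := inf_eq_left.2 hQN
    have hC : centralizerIn Q E ≤ E := fun g hg => hE.1.2 E (isConj_refl F hES) ⟨hQS hg.1, hg.2⟩
    rw [hN] at h1
    have h2 : Nat.card Q ≤ p * (p * p) :=
      h1 ▸ Nat.mul_le_mul hsmall ((Subgroup.card_le_of_le hC).trans hEle)
    have h3 := hQ5.trans h2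
    rw [show p * (p * p) = p ^ 3 by ring] at h3
    have := (Nat.pow_le_pow_iff_right (Fact.out : p.Prime).one_lt).1 h3
    omega
  have hker : ∀ w : E, ∃ a ∈ A, a ≠ 1 ∧ a w = w := by
    intro w
    have hinj : ¬ Function.Injective (fun a : A => (⟨(a : MulAut E) w * w⁻¹, (hAT a.2).1 w⟩ : W)) := by
      intro hinj
      have := Nat.card_le_card_of_injective _ hinj
      rw [hcW] at this
      omega
    simp only [Function.Injective, not_forall] at hinj
    obtain ⟨a, b, he, hne⟩ := hinj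
    have he' : (a : MulAut E) w = (b : MulAut E) w := mul_right_cancel (congrArg Subtype.val he)
    refine ⟨(a : MulAut E)⁻¹ * b, mul_mem (InvMemClass.inv_mem a.2) b.2,
      fun h1 => hne (Subtype.ext (inv_mul_eq_one.1 h1)), ?_⟩
    show (a : MulAut E)⁻¹ ((b : MulAut E) w) = w
    rw [← he']
    exact (a : MulAut E).symm_apply_apply w
  -- the strongly embedded subgroup
  obtain ⟨-, -, hI, Y, hY⟩ := hE
  set K := (Inn E).subgroupOf (F.autGroup E)
  set π := QuotientGroup.mk' K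
  have hπ : Function.Injective π := by
    rw [← MonoidHom.ker_eq_bot_iff, QuotientGroup.ker_mk', eq_bot_iff]
    rintro ⟨_, hα⟩ ⟨e, rfl⟩
    refine Subgroup.mem_bot.2 (Subtype.ext (MulEquiv.ext fun x => ?_))
    show e * x * e⁻¹ = x
    rw [hab e x, mul_inv_cancel_right]
  set T := (transGroup W).subgroupOf (F.autGroup E) with hT
  have hTp : IsPGroup p T := FusionAux.isPGroup_of_pow_eq_one _ fun a ha =>
    ⟨1, Subtype.ext (by rw [pow_one, Subgroup.coe_pow]; exact transGroup_pow_eq_one hcW ha)⟩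
  obtain ⟨R, hR⟩ := (hTp.map π).exists_le_sylow
  obtain ⟨Y', hY', hN⟩ := spe_forall_sylow hY R
  obtain ⟨a0, ha0, ha01, -⟩ := hker 1
  have hne : ∀ (c : F.autGroup E), c ≠ 1 → Subgroup.zpowers (π c) ≠ ⊥ := fun c hc h1 => by
    rw [Subgroup.zpowers_eq_bot] at h1
    exact hc (hπ (h1.trans (map_one π).symm))
  have hRY : (R : Subgroup _) ≤ Y' := Subgroup.le_normalizer.trans (hN R le_rfl fun h1 => by
    have := hR ⟨⟨a0, hAF ha0⟩, hAT ha0, rfl⟩
    rw [h1, Subgroup.mem_bot] at this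
    exact ha01 (congrArg Subtype.val (hπ (this.trans (map_one π).symm))))
  -- everything lies in `Y'`
  refine hY' (eq_top_iff.2 fun x _ => ?_)
  obtain ⟨γ, rfl⟩ := QuotientGroup.mk'_surjective K x
  change π γ ∈ Y'
  by_cases hγ : W.map (γ : MulAut E).toMonoidHom = W
  · refine spe_mem_of_conj R hN (U := Subgroup.zpowers (π ⟨a0, hAF ha0⟩))
      (Subgroup.zpowers_le.2 (hR ⟨_, hAT ha0, rfl⟩))
      (hne _ fun h1 => ha01 (congrArg Subtype.val h1)) ?_
    rintro _ ⟨m, rfl⟩
    show π γ * π ⟨a0, hAF ha0⟩ ^ m * (π γ)⁻¹ ∈ R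
    rw [← map_zpow, ← map_inv, ← map_mul, ← map_mul]
    refine hR ⟨_, ?_, rfl⟩
    have hm : (a0 ^ m : MulAut E) ∈ transGroup W := zpow_mem (hAT ha0) m
    refine ⟨fun e => ?_, fun w hw => ?_⟩
    · rw [← hγ]
      refine ⟨(a0 ^ m) ((γ : MulAut E)⁻¹ e) * ((γ : MulAut E)⁻¹ e)⁻¹, hm.1 _, ?_⟩
      rw [MulEquiv.coe_toMonoidHom, map_mul, map_inv,
        show (γ : MulAut E) ((γ : MulAut E)⁻¹ e) = e from (γ : MulAut E).apply_symm_apply e]
      rfl
    · rw [← hγ] at hw
      obtain ⟨v, hv, rfl⟩ := hw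
      show (γ : MulAut E) ((a0 ^ m) ((γ : MulAut E)⁻¹ ((γ : MulAut E) v))) = (γ : MulAut E) v
      rw [show (γ : MulAut E)⁻¹ ((γ : MulAut E) v) = v from (γ : MulAut E).symm_apply_apply v, hm.2 v hv]
  · obtain ⟨⟨z, hz⟩, hz1⟩ := (Subgroup.ne_bot_iff_exists_ne_one (H := W)).1 (fun hb => by
      rw [hb, Subgroup.card_bot] at hcW
      exact (Fact.out : p.Prime).ne_one hcW.symm)
    have hz1' : z ≠ 1 := fun h1 => hz1 (Subtype.ext h1)
    obtain ⟨a, ha, ha1, haf⟩ := hker ((γ : MulAut E) z)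
    obtain ⟨b₀, hb₀, hb₀1, hbf⟩ := hker ((γ : MulAut E)⁻¹ z)
    set b : MulAut E := (γ : MulAut E) * b₀ * (γ : MulAut E)⁻¹ with hb
    have hbz : b z = z := by
      show (γ : MulAut E) (b₀ ((γ : MulAut E)⁻¹ z)) = z
      rw [hbf]
      exact (γ : MulAut E).apply_symm_apply z
    have hbW : ∀ w ∈ W, b w = w := fun w hw => by
      obtain ⟨m, rfl⟩ := hWgen hz hz1' w hw
      simp [map_zpow, hbz]
    have haW : ∀ w ∈ W.map (γ : MulAut E).toMonoidHom, a w = w := by
      rintro _ ⟨v, hv, rfl⟩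
      obtain ⟨m, rfl⟩ := hWgen hz hz1' v hv
      simp [map_zpow, haf]
    have hbd : ∀ e, b e * e⁻¹ ∈ W.map (γ : MulAut E).toMonoidHom := fun e => by
      refine ⟨b₀ ((γ : MulAut E)⁻¹ e) * ((γ : MulAut E)⁻¹ e)⁻¹, (hAT hb₀).1 _, ?_⟩
      rw [MulEquiv.coe_toMonoidHom, map_mul, map_inv,
        show (γ : MulAut E) ((γ : MulAut E)⁻¹ e) = e from (γ : MulAut E).apply_symm_apply e]
      rfl
    have hcommab : a * b = b * a := by
      refine MulEquiv.ext fun e => ?_
      show a (b e) = b (a e)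
      have h1 : b e = (b e * e⁻¹) * e := by group
      have h2 : a e = (a e * e⁻¹) * e := by group
      conv_lhs => rw [h1, map_mul, haW _ (hbd e), h2]
      conv_rhs => rw [h2, map_mul, hbW _ ((hAT ha).1 e), h1]
      rw [← mul_assoc, inv_mul_cancel_right, hab (b e * e⁻¹) (a e * e⁻¹), mul_assoc, inv_mul_cancel_right]
    set a' : F.autGroup E := ⟨a, hAF ha⟩
    set b' : F.autGroup E := γ * ⟨b₀, hAF hb₀⟩ * γ⁻¹ with hb'
    have hbY : π b' ∈ Y' := by
      refine hN (Subgroup.zpowers (π a')) (Subgroup.zpowers_le.2 (hR ⟨_, hAT ha, rfl⟩))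
        (hne _ fun h1 => ha1 (congrArg Subtype.val h1)) (Subgroup.centralizer_le_normalizer _ ?_)
      refine Subgroup.mem_centralizer_iff.2 ?_
      rintro _ ⟨m, rfl⟩
      have hc : Commute (π a') (π b') := (show Commute a' b' from Subtype.ext hcommab).map π
      exact (hc.zpow_left m).eq
    -- move `b'` into `R`
    have hbp : IsPGroup p (Subgroup.zpowers (π b')) := by
      have hpow : b₀ ^ p = 1 := transGroup_pow_eq_one hcW (hAT hb₀)
      have h1 : (π b') ^ p = 1 := by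
        rw [← map_pow, hb', conj_pow,
          show (⟨b₀, hAF hb₀⟩ : F.autGroup E) ^ p = 1 from Subtype.ext hpow,
          mul_one, mul_inv_cancel, map_one]
      obtain ⟨j, -, hj⟩ := (Nat.dvd_prime_pow (m := 1) Fact.out).1
        (show orderOf (π b') ∣ p ^ 1 by rw [pow_one]; exact orderOf_dvd_of_pow_eq_one h1)
      exact IsPGroup.of_card (n := j) (by rw [Nat.card_zpowers, hj])
    obtain ⟨R', hR'⟩ := (hbp.of_equiv (Subgroup.subgroupOfEquivOfLe (Subgroup.zpowers_le.2 hbY)).symm).exists_le_sylow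
    obtain ⟨ε, hε⟩ := MulAction.exists_smul_eq Y' R' (R.subtype hRY)
    have hmem : ∀ u ∈ Subgroup.zpowers (π b'), (ε : _) * u * (ε : F.autGroup E ⧸ K)⁻¹ ∈ R := by
      intro u hu
      have h1 : MulAut.conj ε (⟨u, Subgroup.zpowers_le.2 hbY hu⟩ : Y') ∈ (ε • R' : Sylow p Y') :=
        Subgroup.smul_mem_pointwise_smul _ (MulAut.conj ε) (R' : Subgroup Y') (hR' hu)
      rw [hε] at h1
      exact h1
    have hεγ : (ε : F.autGroup E ⧸ K) * π γ ∈ Y' := by
      refine spe_mem_of_conj R hN (U := Subgroup.zpowers (π ⟨b₀, hAF hb₀⟩))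
        (Subgroup.zpowers_le.2 (hR ⟨_, hAT hb₀, rfl⟩))
        (hne _ fun h1 => hb₀1 (congrArg Subtype.val h1)) ?_
      rintro _ ⟨m, rfl⟩
      have h1 := hmem (π b' ^ m) ⟨m, rfl⟩
      rw [hb', map_mul, map_mul, map_inv, conj_zpow] at h1
      simpa [mul_assoc] using h1
    have := Y'.mul_mem (Y'.inv_mem ε.2) hεγ
    rwa [inv_mul_cancel_left] at this

end Cfsg.Agent.FusionQd
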