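import Cfsg.Agent.LocalP.Yoshida
import Cfsg.Agent.Tech.WreathQuotient

/-!
# A partial transfer with non-trivial norm gives a wreath quotient
-/

set_option autoImplicit false
set_option linter.all false

open Subgroup MulAction Function
open Cfsg.Agent Cfsg.Agent.LocalP.Yoshida

namespace Cfsg.Agent.FusionQd

variable {G : Type*} [Group G] [Finite G] {N : Subgroup G} {C : Type*} [CommGroup C]

/-- If the conjugates in `N` of the proper powers are in the kernel, only fixed points contribute. -/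
theorem exists_fixed_of_prod_ne_one_of_conj {p : ℕ} [Fact p.Prime] (φ : ↥N →* C) {x : G} {e : ℕ}
    (hx : orderOf x = p ^ e)
    (hmin : ∀ (a : G) (m : ℕ) (hu : a⁻¹ * (x ^ m * a) ∈ N), ∀ j < e, orderOf (a⁻¹ * (x ^ m * a)) = p ^ j →
      φ ⟨_, hu⟩ = 1)
    {B : Finset (G ⧸ N)} (hB : ∀ q ∈ B, x • q ∈ B) (hne : ∏ b ∈ B, cval φ x b ≠ 1) :
    ∃ q ∈ B, x • q = q := by
  classical
  by_contra hcon
  push Not at hcon
  have hinv : ∀ (n : ℕ) (q : G ⧸ N), q ∈ B → x ^ n • q ∈ B := by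
    intro n
    induction n with
    | zero => intro q hq; simpa using hq
    | succ n ih => intro q hq; rw [pow_succ', mul_smul]; exact hB _ (ih q hq)
  refine hne (prod_eq_one_of_orbits (R := zpowers x) ?_ fun q hq O hO => ?_)
  · intro r hr q hq
    obtain ⟨n, rfl⟩ := (isOfFinOrder_of_finite x).mem_powers_iff_mem_zpowers.2 hr
    exact hinv n q hq
  set k := minimalPeriod (x • ·) q with hk
  have hper : IsPeriodicPt (x • ·) (orderOf x) q := by
    show (x • ·)^[orderOf x] q = q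
    rw [smul_iterate]
    simp only [pow_orderOf_eq_one, one_smul]
  have hkpos : 0 < k := hper.minimalPeriod_pos (orderOf_pos x)
  have hxk : x ^ k • q = q := by
    have := isPeriodicPt_minimalPeriod (x • ·) q
    rwa [IsPeriodicPt, IsFixedPt, smul_iterate] at this
  have hOeq : O = (Finset.range k).image (fun i => x ^ i • q) := by
    ext b
    rw [hO, Finset.mem_image]
    constructor
    · rintro ⟨r, hr, rfl⟩
      obtain ⟨n, rfl⟩ := (isOfFinOrder_of_finite x).mem_powers_iff_mem_zpowers.2 hr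
      refine ⟨n % k, Finset.mem_range.2 (Nat.mod_lt _ hkpos), ?_⟩
      have := iterate_mod_minimalPeriod_eq (f := (x • ·)) (x := q) (n := n)
      rwa [smul_iterate, smul_iterate] at this
    · rintro ⟨i, -, rfl⟩
      exact ⟨x ^ i, pow_mem (mem_zpowers x) i, rfl⟩
  rw [hOeq, Finset.prod_image fun i hi j hj hij =>
    iterate_injOn_Iio_minimalPeriod (f := (x • ·)) (x := q) (Finset.mem_range.1 hi)
      (Finset.mem_range.1 hj) (by simpa [smul_iterate] using hij), ← cval_pow]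
  have hmem : q.out⁻¹ * (x ^ k * q.out) ∈ N := QuotientGroup.eq.1 (by
    rw [QuotientGroup.out_eq', ← smul_eq_mul, Quotient.coe_smul_out, hxk])
  rw [cval_of_fixed φ hxk hmem]
  obtain ⟨i, hi, hik⟩ := (Nat.dvd_prime_pow Fact.out).1 (hx ▸ hper.minimalPeriod_dvd)
  have hi0 : i ≠ 0 := fun h0 => hcon q hq (by
    have hk1 : k = 1 := by rw [hk, hik, h0, pow_zero]
    rwa [hk1, pow_one] at hxk)
  have hord : orderOf (q.out⁻¹ * (x ^ k * q.out)) = p ^ (e - i) := by
    rw [show q.out⁻¹ * (x ^ k * q.out) = MulAut.conj q.out⁻¹ (x ^ k) by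
        simp [MulAut.conj_apply, mul_assoc], MulEquiv.orderOf_eq,
      orderOf_pow' x hkpos.ne', hx, hk, hik,
      Nat.gcd_eq_right (pow_dvd_pow p hi), Nat.pow_div hi (Fact.out : p.Prime).pos]
  exact hmin _ _ hmem _ (by omega) hord

/-- The product over a block of an orbit that is moved. -/
theorem exists_partial {p : ℕ} [Fact p.Prime] [Fintype (G ⧸ N)] (φ : ↥N →* Multiplicative (ZMod p)) {R : Subgroup G}
    (hRp : IsPGroup p ↥R) {x : G} (hxR : x ∈ R) {q₁ : G ⧸ N} (hxq₁ : x • q₁ = q₁)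
    (hmove : ¬ ∀ r ∈ R, r • q₁ = q₁) {O : Finset (G ⧸ N)}
    (hO₁ : ∀ b, b ∈ O ↔ ∃ r ∈ R, r • q₁ = b) (hOne : ∏ b ∈ O, cval φ x b ≠ 1) :
    ∃ z ∈ R, ∃ (U : Subgroup G) (F : G → Multiplicative (ZMod p)),
      U ≤ R ∧ x ∈ U ∧ R ≤ Subgroup.normalizer (U : Set G) ∧ U.relIndex R = p ∧
      (∀ u ∈ U, ∀ v ∈ U, F (u * v) = F u * F v) ∧
      ∏ i ∈ Finset.range p, F ((z ^ i)⁻¹ * x * z ^ i) ≠ 1 := by
  classical
  set T : Subgroup ↥R := (MulAction.stabilizer G q₁).subgroupOf R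
  have hTne : T ≠ ⊤ := fun he => hmove fun w hw => by
    have : (⟨w, hw⟩ : ↥R) ∈ T := he ▸ Subgroup.mem_top _
    exact this
  obtain ⟨U₀, hU₀, hTU⟩ := (eq_top_or_exists_le_coatom T).resolve_left hTne
  haveI := PGroup.normal_of_isCoatom hRp hU₀
  have hU₀i := PGroup.index_of_isCoatom hRp hU₀
  set U := U₀.map R.subtype with hU
  have hUR : U ≤ R := map_subtype_le U₀
  have hxU : x ∈ U := ⟨⟨x, hxR⟩, hTU (show x • q₁ = q₁ from hxq₁), rfl⟩
  have hRnU : R ≤ Subgroup.normalizer (U : Set G) := by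
    intro r hr
    refine mem_normalizer_iff.2 fun g => ?_
    constructor
    · rintro ⟨g, hg, rfl⟩
      exact ⟨⟨r, hr⟩ * g * ⟨r, hr⟩⁻¹, Normal.conj_mem inferInstance g hg _, rfl⟩
    · intro hg
      have hgR : g ∈ R := by
        have := mul_mem (mul_mem (inv_mem hr) (hUR hg)) hr
        simpa [mul_assoc] using this
      obtain ⟨g', hg', he⟩ := hg
      refine ⟨⟨g, hgR⟩, ?_, rfl⟩
      have := Normal.conj_mem (inferInstance : U₀.Normal) g' hg' (⟨r, hr⟩⁻¹)
      have heq : (⟨r, hr⟩ : ↥R)⁻¹ * g' * (⟨r, hr⟩ : ↥R)⁻¹⁻¹ = ⟨g, hgR⟩ := by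
        refine Subtype.ext ?_
        simp only [inv_inv, Subgroup.coe_mul, InvMemClass.coe_inv]
        rw [show (g' : G) = r * g * r⁻¹ from he]
        group
      exact heq ▸ this
  obtain ⟨z, hzR, hzU⟩ : ∃ z ∈ R, z ∉ U := by
    by_contra hcon
    push Not at hcon
    refine hU₀.1 (top_le_iff.1 fun r _ => ?_)
    obtain ⟨r', hr', he⟩ := hcon r r.2
    rwa [← Subtype.ext (show (r' : G) = r from he)]
  set z' : ↥R := ⟨z, hzR⟩
  have hz' : z' ∉ U₀ := fun hm => hzU ⟨z', hm, rfl⟩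
  have hzpow : ∀ n : ℕ, z' ^ n ∈ U₀ ↔ p ∣ n := by
    intro n
    rw [← QuotientGroup.eq_one_iff, ← QuotientGroup.mk'_apply, map_pow, ← orderOf_dvd_iff_pow_eq_one]
    have : orderOf (QuotientGroup.mk' U₀ z') = p := by
      refine orderOf_eq_prime ?_ fun h1 => hz' ((QuotientGroup.eq_one_iff _).1 h1)
      rw [← hU₀i, Subgroup.index, pow_card_eq_one']
    rw [this]
  have hgen : ∀ r : ↥R, ∃ i < p, ∃ v ∈ U₀, r = z' ^ i * v := by
    intro r
    haveI : Fact (Nat.card (↥R ⧸ U₀)).Prime := ⟨by rw [← Subgroup.index, hU₀i]; exact Fact.out⟩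
    have hne : QuotientGroup.mk' U₀ z' ≠ 1 := fun h1 => hz' ((QuotientGroup.eq_one_iff _).1 h1)
    have hm : QuotientGroup.mk' U₀ r ∈ zpowers (QuotientGroup.mk' U₀ z') :=
      mem_zpowers_of_prime_card (p := Nat.card (↥R ⧸ U₀)) rfl hne
    rw [mem_zpowers_iff_mem_range_orderOf, Finset.mem_image] at hm
    obtain ⟨i, hi, he⟩ := hm
    refine ⟨i, ?_, (z' ^ i)⁻¹ * r, ?_, (mul_inv_cancel_left _ _).symm⟩
    · have := orderOf_dvd_natCard (QuotientGroup.mk' U₀ z')
      rw [← Subgroup.index, hU₀i] at this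
      exact (Finset.mem_range.1 hi).trans_le (Nat.le_of_dvd (Fact.out : p.Prime).pos this)
    · rw [← QuotientGroup.eq_one_iff, ← QuotientGroup.mk'_apply, map_mul, map_inv, map_pow, he,
        inv_mul_cancel]
  set B : Finset (G ⧸ N) := Finset.univ.filter (fun b => ∃ v ∈ U, v • q₁ = b)
  have hBmem : ∀ b, b ∈ B ↔ ∃ v ∈ U, v • q₁ = b := fun b => by simp [B]
  have hBinv : ∀ v ∈ U, ∀ b ∈ B, v • b ∈ B := by
    intro v hv b hb
    obtain ⟨v', hv', rfl⟩ := (hBmem b).1 hb
    exact (hBmem _).2 ⟨v * v', mul_mem hv hv', mul_smul _ _ _⟩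
  set F : G → Multiplicative (ZMod p) := fun g => ∏ b ∈ B, cval φ g b with hF
  have hperm : ∀ v ∈ U, ∀ f : G ⧸ N → Multiplicative (ZMod p),
      ∏ b ∈ B, f (v • b) = ∏ b ∈ B, f b := by
    intro v hv f
    exact Finset.prod_equiv (MulAction.toPerm v) (fun b => ⟨hBinv v hv b, fun hb => by
      simpa using hBinv v⁻¹ (inv_mem hv) _ hb⟩) fun b _ => rfl
  refine ⟨z, hzR, U, F, hUR, hxU, hRnU, ?_, ?_, ?_⟩
  · rw [relIndex, hU, subgroupOf, comap_map_eq_self_of_injective R.subtype_injective, hU₀i]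
  · intro v _ w hw
    simp only [hF, cval_mul, Finset.prod_mul_distrib]
    rw [hperm w hw (cval φ v)]
  · have hterm : ∀ i : ℕ, F ((z ^ i)⁻¹ * x * z ^ i) = ∏ b ∈ B, cval φ x (z ^ i • b) := by
      intro i
      have hzi : (z ^ i)⁻¹ ∈ Subgroup.normalizer (U : Set G) :=
        inv_mem (pow_mem (hRnU hzR) i)
      have hv : (z ^ i)⁻¹ * x * z ^ i ∈ U := by
        simpa using (mem_normalizer_iff.1 hzi x).1 hxU
      have hsplit : ∀ b, cval φ ((z ^ i)⁻¹ * x * z ^ i) b =
          cval φ (z ^ i)⁻¹ (z ^ i • ((z ^ i)⁻¹ * x * z ^ i) • b) * cval φ x (z ^ i • b) *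
            cval φ (z ^ i) b := by
        intro b
        rw [cval_mul, cval_mul, ← mul_smul (z ^ i) ((z ^ i)⁻¹ * x * z ^ i), ← mul_smul x,
          show z ^ i * ((z ^ i)⁻¹ * x * z ^ i) = x * z ^ i by group]
      simp only [hF, hsplit, Finset.prod_mul_distrib]
      rw [hperm _ hv (fun b => cval φ (z ^ i)⁻¹ (z ^ i • b)), mul_right_comm,
        ← Finset.prod_mul_distrib, Finset.prod_eq_one fun b _ => ?_, one_mul]
      rw [← cval_mul, inv_mul_cancel, cval_one]
    have hdisj : Set.InjOn (fun ib : ℕ × (G ⧸ N) => z ^ ib.1 • ib.2) ↑(Finset.range p ×ˢ B) := by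
      rintro ⟨i, b⟩ hib ⟨j, c⟩ hjc he
      simp only [Finset.coe_product, Set.mem_prod, Finset.coe_range, Set.mem_Iio,
        Finset.mem_coe] at hib hjc
      simp only at he
      obtain ⟨hi, hb⟩ := hib
      obtain ⟨hj, hc⟩ := hjc
      obtain ⟨v, ⟨v', hv', rfl⟩, rfl⟩ := (hBmem b).1 hb
      obtain ⟨w, ⟨w', hw', rfl⟩, rfl⟩ := (hBmem c).1 hc
      have hmem : (z' ^ j * w')⁻¹ * (z' ^ i * v') ∈ T := by
        show ((((z' ^ j * w')⁻¹ * (z' ^ i * v') : ↥R)) : G) • q₁ = q₁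
        simp only [Subgroup.coe_mul, InvMemClass.coe_inv, SubmonoidClass.coe_pow, z']
        rw [mul_smul, mul_smul (z ^ i)]
        erw [he]
        rw [← mul_smul (z ^ j)]
        exact inv_smul_smul _ _
      have h2 : QuotientGroup.mk' U₀ z' ^ i = QuotientGroup.mk' U₀ z' ^ j := by
        have := (QuotientGroup.eq_one_iff _).2 (hTU hmem)
        rw [← QuotientGroup.mk'_apply, map_mul, map_inv, map_mul, map_mul, map_pow, map_pow,
          show QuotientGroup.mk' U₀ v' = 1 from (QuotientGroup.eq_one_iff _).2 hv',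
          show QuotientGroup.mk' U₀ w' = 1 from (QuotientGroup.eq_one_iff _).2 hw', mul_one, mul_one,
          inv_mul_eq_one] at this
        exact this.symm
      have hij : i = j := by
        have hord : orderOf (QuotientGroup.mk' U₀ z') = p := by
          refine orderOf_eq_prime ?_ fun h1 => hz' ((QuotientGroup.eq_one_iff _).1 h1)
          rw [← map_pow]
          exact (QuotientGroup.eq_one_iff _).2 ((hzpow p).2 dvd_rfl)
        exact pow_injOn_Iio_orderOf (by rw [hord]; exact hi) (by rw [hord]; exact hj) h2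
      subst hij
      rw [smul_left_cancel_iff] at he
      rw [Prod.mk.injEq]
      exact ⟨rfl, he⟩
    have hOimg : O = (Finset.range p ×ˢ B).image (fun ib : ℕ × (G ⧸ N) => z ^ ib.1 • ib.2) := by
      ext b
      rw [hO₁, Finset.mem_image]
      constructor
      · rintro ⟨r, hr, rfl⟩
        obtain ⟨i, hi, v, hv, he⟩ := hgen ⟨r, hr⟩
        refine ⟨(i, (v : G) • q₁), Finset.mem_product.2 ⟨Finset.mem_range.2 hi,
          (hBmem _).2 ⟨v, ⟨v, hv, rfl⟩, rfl⟩⟩, ?_⟩
        rw [← mul_smul]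
        exact congrArg (· • q₁) (congrArg Subtype.val he).symm
      · rintro ⟨⟨i, c⟩, hic, rfl⟩
        obtain ⟨v, hv, rfl⟩ := (hBmem c).1 (Finset.mem_product.1 hic).2
        exact ⟨z ^ i * v, mul_mem (pow_mem hzR i) (hUR hv), mul_smul _ _ _⟩
    rw [hOimg, Finset.prod_image hdisj, Finset.prod_product] at hOne
    simpa only [hterm] using hOne

/-- A group with such a configuration maps onto the wreath product. -/
theorem wreath_of_partial {p : ℕ} [Fact p.Prime] {S U : Subgroup G} (hS : IsPGroup p S)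
    {F : G → Multiplicative (ZMod p)} {x z : G} (hxS : x ∈ S) (hzS : z ∈ S) (hUS : U ≤ S)
    (hxU : x ∈ U) (hSn : S ≤ Subgroup.normalizer (U : Set G)) (hidx : U.relIndex S = p)
    (hmul : ∀ u ∈ U, ∀ v ∈ U, F (u * v) = F u * F v)
    (hne : ∏ i ∈ Finset.range p, F ((z ^ i)⁻¹ * x * z ^ i) ≠ 1) :
    ∃ (P : Sylow p (Equiv.Perm (Fin (p ^ 2))))
      (f : ↥S →* ↥(P : Subgroup (Equiv.Perm (Fin (p ^ 2))))), Function.Surjective f := by
  classical
  haveI hUn : (U.subgroupOf S).Normal :=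
    (Subgroup.normal_subgroupOf_iff_le_normalizer hUS).2 hSn
  set U' := U.subgroupOf S with hU'
  have hUi : U'.index = p := hidx
  have hF1 : F 1 = 1 := by
    have h2 := hmul 1 U.one_mem 1 U.one_mem
    rw [one_mul] at h2
    exact left_eq_mul.1 h2
  let F₀ : ↥U' →* Multiplicative (ZMod p) :=
    { toFun := fun v => F ((v : ↥S) : G)
      map_one' := hF1
      map_mul' := fun u v => hmul _ u.2 _ v.2 }
  set K := F₀.ker.map U'.subtype with hK
  have hKU : K ≤ U' := Subgroup.map_subtype_le _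
  set D := K.normalCore with hD
  have hDU : D ≤ U' := K.normalCore_le.trans hKU
  set f := QuotientGroup.mk' D with hf
  haveI : (U'.map f).Normal := hUn.map f (QuotientGroup.mk'_surjective D)
  have hP : IsPGroup p (↥S ⧸ D) := hS.to_quotient D
  have hexp : ∀ a : Multiplicative (ZMod p), a ^ p = 1 := fun a => by
    apply Multiplicative.toAdd.injective
    simp
  have hconj : ∀ (g : ↥S) {u}, u ∈ U' → g * u * g⁻¹ ∈ U' := fun g u hu =>
    hUn.conj_mem u hu g
  have hA : Cfsg.IsElementaryAbelian p (U'.map f) := by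
    refine ⟨⟨⟨?_⟩⟩, ?_⟩
    · rintro ⟨_, u, hu, rfl⟩ ⟨_, v, hv, rfl⟩
      refine Subtype.ext ?_
      show f u * f v = f v * f u
      rw [← map_mul, ← map_mul]
      refine (QuotientGroup.eq).2 fun g => ?_
      change g * _ * g⁻¹ ∈ K
      refine ⟨⟨g * ((u * v)⁻¹ * (v * u)) * g⁻¹,
        hconj g (mul_mem (inv_mem (mul_mem hu hv)) (mul_mem hv hu))⟩, ?_, rfl⟩
      have e : (⟨g * ((u * v)⁻¹ * (v * u)) * g⁻¹,
            hconj g (mul_mem (inv_mem (mul_mem hu hv)) (mul_mem hv hu))⟩ : ↥U') =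
          ((⟨g * u * g⁻¹, hconj g hu⟩ : ↥U') * ⟨g * v * g⁻¹, hconj g hv⟩)⁻¹ *
            ((⟨g * v * g⁻¹, hconj g hv⟩ : ↥U') * ⟨g * u * g⁻¹, hconj g hu⟩) := by
        refine Subtype.ext ?_
        simp only [Subgroup.coe_mul, InvMemClass.coe_inv]
        group
      show F₀ _ = 1
      rw [e]
      rw [map_mul, map_inv, map_mul, map_mul, mul_comm (F₀ ⟨g * u * g⁻¹, hconj g hu⟩), inv_mul_cancel]
    · rintro _ ⟨u, hu, rfl⟩
      rw [← map_pow]
      refine (QuotientGroup.eq_one_iff _).2 fun g => ?_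
      refine ⟨⟨g * u ^ p * g⁻¹, hconj g (pow_mem hu p)⟩, ?_, rfl⟩
      have e : (⟨g * u ^ p * g⁻¹, hconj g (pow_mem hu p)⟩ : ↥U') =
          (⟨g * u * g⁻¹, hconj g hu⟩ : ↥U') ^ p := by
        refine Subtype.ext ?_
        simp only [SubmonoidClass.coe_pow, conj_pow]
      show F₀ _ = 1
      rw [e, map_pow, hexp]
  have hidx' : (U'.map f).index = p := by
    rw [Subgroup.index_map, QuotientGroup.ker_mk', sup_eq_left.2 hDU,
      MonoidHom.range_eq_top.2 (QuotientGroup.mk'_surjective D), Subgroup.index_top, mul_one, hUi]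
  set x' : ↥S := ⟨x, hxS⟩ with hx'
  set z' : ↥S := ⟨z, hzS⟩ with hz'
  have hxU' : x' ∈ U' := hxU
  have hterm : ∀ i : ℕ, (z' ^ i)⁻¹ * x' * z' ^ i ∈ U' := fun i => by
    simpa using hconj (z' ^ i)⁻¹ hxU'
  have hprod : ((List.range p).map
      (fun i => ((f z') ^ i)⁻¹ * f x' * (f z') ^ i)).prod ≠ 1 := by
    intro h1
    apply hne
    set l : List ↥U' := (List.range p).map (fun i => ⟨_, hterm i⟩) with hl
    have h2 : (l.prod : ↥S) ∈ D := by
      rw [← QuotientGroup.eq_one_iff, ← h1, ← QuotientGroup.mk'_apply, SubmonoidClass.coe_list_prod,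
        hl, List.map_map, map_list_prod, List.map_map]
      simp [Function.comp_def, hf]
    obtain ⟨w, hw, hwe⟩ := K.normalCore_le h2
    have h3 : F₀ l.prod = 1 := by
      rw [show l.prod = w from Subtype.ext hwe.symm]; exact hw
    rw [map_list_prod, hl, List.map_map] at h3
    rw [← h3, Finset.prod, Finset.range_val, Multiset.range, Multiset.map_coe, Multiset.prod_coe]
    rfl
  obtain ⟨Q, g, hg⟩ := Tech.wreath_quotient hP (U'.map f) hA hidx' (f x') (f z')
    (Subgroup.mem_map_of_mem f hxU') hprod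
  exact ⟨Q, g.comp f, hg.comp (QuotientGroup.mk'_surjective D)⟩

end Cfsg.Agent.FusionQd
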