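import Cfsg.Agent.FusionSys.Realized
import Cfsg.Agent.FusionSys.Focal
import Cfsg.Agent.FusionSys.Model
import Cfsg.Agent.FusionSys.Centric
import Cfsg.Agent.FusionModel.Exists
import Cfsg.Agent.FusionSub.PPowerExists
import Cfsg.Agent.FusionSub.PIndex
import Cfsg.Agent.PSolv.Basic

/-!
# Residual subsystems of systems with a model
-/

set_option autoImplicit false
set_option linter.all false

open Cfsg Cfsg.FusionSystem Cfsg.Agent.FusionSys

namespace Cfsg.Agent.FusionQd

universe u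

variable {Ω : Type u} [Group Ω] {S : Subgroup Ω} {G : Type u} [Group G] {p : ℕ}

/-- The subgroup generated by the elements of `p`-power order. -/
def pGen (p : ℕ) (G : Type u) [Group G] : Subgroup G :=
  Subgroup.closure {g : G | ∃ k : ℕ, g ^ p ^ k = 1}

instance pGen_normal : (pGen p G).Normal := by
  refine ⟨fun x hx g => ?_⟩
  induction hx using Subgroup.closure_induction with
  | mem x hx =>
    obtain ⟨k, hk⟩ := hx
    exact Subgroup.subset_closure ⟨k, by rw [conj_pow, hk, mul_one, mul_inv_cancel]⟩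
  | one => rw [mul_one, mul_inv_cancel]; exact one_mem _
  | mul a b _ _ ha hb => rw [← conj_mul]; exact mul_mem ha hb
  | inv a _ ha => rw [← conj_inv]; exact inv_mem ha

theorem mem_pGen {g : G} {k : ℕ} (h : g ^ p ^ k = 1) : g ∈ pGen p G :=
  Subgroup.subset_closure ⟨k, h⟩

theorem pGroup_le_pGen {P : Subgroup G} (h : IsPGroup p P) : P ≤ pGen p G := fun x hx => by
  obtain ⟨k, hk⟩ := h ⟨x, hx⟩
  exact mem_pGen (k := k) (congrArg Subtype.val hk)

/-- Powers congruent to one modulo the order of the image. -/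
theorem exists_lift_pow [Finite G] [Fact p.Prime] (g : G) {o : ℕ} :
    (∀ a : ℕ, o = p ^ a → ∃ k : ℕ, (∃ j : ℕ, (g ^ k) ^ p ^ j = 1) ∧ k ≡ 1 [MOD o]) ∧
    (o.Coprime p → ∃ k : ℕ, (orderOf (g ^ k)).Coprime p ∧ k ≡ 1 [MOD o]) := by
  have hp : p.Prime := Fact.out
  obtain ⟨b, m, hm, hg⟩ := Nat.exists_eq_pow_mul_and_not_dvd (orderOf_pos g).ne' p hp.ne_one
  have hcop : m.Coprime p := ((hp.coprime_iff_not_dvd).2 hm).symm
  constructor
  · rintro a rfl
    obtain ⟨k, hk1, hk2⟩ := Nat.chineseRemainder (Nat.Coprime.pow_right a hcop) 0 1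
    refine ⟨k, ⟨b, ?_⟩, hk2⟩
    obtain ⟨c, rfl⟩ := Nat.modEq_zero_iff_dvd.1 hk1
    rw [← pow_mul, show m * c * p ^ b = orderOf g * c by rw [hg]; ring, pow_mul, pow_orderOf_eq_one,
      one_pow]
  · intro ho
    obtain ⟨k, hk1, hk2⟩ := Nat.chineseRemainder (Nat.Coprime.pow_left b ho.symm) 0 1
    refine ⟨k, ?_, hk2⟩
    obtain ⟨c, rfl⟩ := Nat.modEq_zero_iff_dvd.1 hk1
    refine Nat.Coprime.coprime_dvd_left ?_ hcop
    refine orderOf_dvd_of_pow_eq_one ?_
    rw [← pow_mul, show p ^ b * c * m = orderOf g * c by rw [hg]; ring, pow_mul, pow_orderOf_eq_one,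
      one_pow]

/-- Normal subgroups inherit constraint. -/
theorem centralizer_pCore_normal [Finite G] [Fact p.Prime]
    (hG : Subgroup.centralizer ((pCore p G : Subgroup G) : Set G) ≤ pCore p G)
    (K : Subgroup G) [K.Normal] :
    Subgroup.centralizer ((pCore p K : Subgroup K) : Set K) ≤ pCore p K := by
  have hQp : IsPGroup p (pCore p G) := Cfsg.Agent.PSolv.isPGroup_pCore p G
  set C := Subgroup.centralizer (((pCore p G).subgroupOf K : Subgroup K) : Set K) with hC
  have hQK : (pCore p G).subgroupOf K ≤ pCore p K :=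
    Cfsg.Agent.Cores.le_pCore inferInstance (hQp.comap_of_injective _ K.subtype_injective)
  refine le_trans (Subgroup.centralizer_le (SetLike.coe_subset_coe.2 hQK))
    (Cfsg.Agent.Cores.le_pCore ?_ ?_)
  · refine ⟨fun c hc g => Subgroup.mem_centralizer_iff.2 fun q hq => ?_⟩
    have hq' : g⁻¹ * q * g ∈ (pCore p G).subgroupOf K := by
      have := (inferInstance : ((pCore p G).subgroupOf K).Normal).conj_mem q hq g⁻¹
      rwa [inv_inv] at this
    have h := Subgroup.mem_centralizer_iff.1 hc _ hq'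
    calc q * (g * c * g⁻¹) = g * (g⁻¹ * q * g * c) * g⁻¹ := by group
      _ = g * (c * (g⁻¹ * q * g)) * g⁻¹ := by rw [h]
      _ = g * c * g⁻¹ * q := by group
  · rintro ⟨c, hc⟩
    obtain ⟨n, hn⟩ := hQp.exists_card_eq
    have hpow : (c : G) ^ p ^ n ∈ pCore p G := by
      refine hG (Subgroup.mem_centralizer_iff.2 fun q hq => ?_)
      set d := q⁻¹ * ((c : G) * q * (c : G)⁻¹) with hd
      have hdQ : d ∈ pCore p G :=
        mul_mem (inv_mem hq) ((inferInstance : (pCore p G).Normal).conj_mem q hq c)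
      have hdK : d ∈ K := by
        rw [hd, show q⁻¹ * ((c : G) * q * (c : G)⁻¹) =
          (q⁻¹ * (c : G) * q⁻¹⁻¹) * (c : G)⁻¹ by group]
        exact mul_mem ((inferInstance : K.Normal).conj_mem _ c.2 _) (inv_mem c.2)
      have hcd : (c : G) * d * (c : G)⁻¹ = d := by
        have h := congrArg Subtype.val (Subgroup.mem_centralizer_iff.1 hc ⟨d, hdK⟩ hdQ)
        simp only [Subgroup.coe_mul] at h
        rw [← h, mul_inv_cancel_right]
      have key : ∀ i : ℕ, (c : G) ^ i * q * ((c : G) ^ i)⁻¹ = q * d ^ i := by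
        intro i
        induction i with
        | zero => simp
        | succ i ih =>
          rw [pow_succ', mul_inv_rev, show (c : G) * (c : G) ^ i * q * (((c : G) ^ i)⁻¹ * (c : G)⁻¹) =
            (c : G) * ((c : G) ^ i * q * ((c : G) ^ i)⁻¹) * (c : G)⁻¹ by group, ih,
            show (c : G) * (q * d ^ i) * (c : G)⁻¹ =
              ((c : G) * q * (c : G)⁻¹) * ((c : G) * d ^ i * (c : G)⁻¹) by group,
            ← conj_pow, hcd, show (c : G) * q * (c : G)⁻¹ = q * d by rw [hd, mul_inv_cancel_left],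
            pow_succ', mul_assoc]
      have hd1 : d ^ p ^ n = 1 := by
        have : (⟨d, hdQ⟩ : pCore p G) ^ p ^ n = 1 := hn ▸ pow_card_eq_one'
        exact congrArg Subtype.val this
      have h := key (p ^ n)
      rw [hd1, mul_one] at h
      exact (mul_inv_eq_iff_eq_mul.1 h).symm
    obtain ⟨j, hj⟩ := hQp ⟨_, hpow⟩
    refine ⟨n + j, Subtype.ext (Subtype.ext ?_)⟩
    show (c : G) ^ p ^ (n + j) = 1
    rw [pow_add, pow_mul]
    exact congrArg Subtype.val hj

/-- A nontrivial `p`-solvable group generated by `p`-elements has a proper `p`-residual. -/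
theorem pResidual_ne_top [Finite G] [Fact p.Prime] [Nontrivial G] (hs : IsPSolvable p G)
    (hgen : pGen p G = ⊤) : pResidual p G ≠ ⊤ := by
  intro htop
  obtain ⟨n, H, h0, hn, hmono, hnorm, hrel⟩ := hs
  have hall : ∀ i, H i = ⊤ := by
    intro i
    induction i using Fin.reverseInduction with
    | last => exact hn
    | cast i ih =>
      haveI := hnorm i.castSucc
      set N := H i.castSucc
      have hidx : (∃ m : ℕ, N.index = p ^ m) ∨ N.index.Coprime p := by
        have := hrel i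
        rwa [ih, Subgroup.relIndex_top_right] at this
      rcases hidx with ⟨m, hm⟩ | hc
      · refine eq_top_iff.2 (htop ▸ (Subgroup.closure_le _).2 fun g hg => ?_)
        refine (QuotientGroup.eq_one_iff (N := N) g).1 (orderOf_eq_one_iff.1 ?_)
        refine Nat.eq_one_of_dvd_coprimes (a := orderOf g) (b := N.index) ?_ (orderOf_map_dvd (QuotientGroup.mk' N) g)
          (orderOf_dvd_natCard _)
        rw [hm]
        exact Nat.Coprime.pow_right m hg
      · refine eq_top_iff.2 (hgen ▸ (Subgroup.closure_le _).2 fun g hg => ?_)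
        obtain ⟨k, hk⟩ := hg
        refine (QuotientGroup.eq_one_iff (N := N) g).1 (orderOf_eq_one_iff.1 ?_)
        refine Nat.eq_one_of_dvd_coprimes (a := p ^ k) (b := N.index) ?_ ?_ (orderOf_dvd_natCard _)
        · exact (Nat.Coprime.pow_right k hc).symm
        · exact orderOf_dvd_of_pow_eq_one (by rw [← QuotientGroup.mk_pow, hk]; rfl)
  exact (Subgroup.nontrivial_iff_ne_bot (⊤ : Subgroup G)).1 inferInstance ((hall 0).symm.trans h0)

variable {F : FusionSystem S} {ι : S →* G}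

/-- An element normalizing the image of `P` induces an automorphism of `P` in the system. -/
theorem exists_aut_of_normalizes [Finite S] (hF : F.IsRealizedBy ι) {P : Subgroup Ω} (hP : P ≤ S)
    {n : G} (hn : ∀ y ∈ img ι P, n * y * n⁻¹ ∈ img ι P) :
    ∃ α ∈ F.autGroup P, ∀ x : P,
      ι ⟨(((α : MulAut P) x : P) : Ω), hP (Subtype.coe_prop _)⟩ = n * ι ⟨x, hP x.2⟩ * n⁻¹ := by
  have : Finite P := finite_of_le ‹_› hP
  obtain ⟨φ, hφ, he⟩ := exists_hom_of_conj hF hP (g := n) fun y hy => img_le_range P (hn y hy)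
  have hr : φ.range = P := range_eq_of_image_le (F.injective_of_mem hφ) (by
    rintro _ ⟨x, rfl⟩
    obtain ⟨w, hw, hwe⟩ := mem_img.1 (hn _ (mem_img_of_mem hP x.2))
    rw [← he x (map_mem_S F hφ x)] at hwe
    rw [← show (w : Ω) = φ x from congrArg Subtype.val (hF.1 hwe)]
    exact hw) le_rfl
  have hφP : ∀ x : P, φ x ∈ P := fun x => hr.le ⟨x, rfl⟩
  exact ⟨toIso F hφ hr, toIso_mem_autGroup F hφ hr, fun x => he x (hP (hφP x))⟩

theorem pow_induces {P : Subgroup Ω} (hP : P ≤ S) {α : MulAut P} {n : G}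
    (hα : ∀ x : P, ι ⟨((α x : P) : Ω), hP (α x).2⟩ = n * ι ⟨x, hP x.2⟩ * n⁻¹) (k : ℕ) :
    ∀ x : P, ι ⟨(((α ^ k) x : P) : Ω), hP (Subtype.coe_prop _)⟩ =
      n ^ k * ι ⟨x, hP x.2⟩ * (n ^ k)⁻¹ := by
  induction k with
  | zero => intro x; simp
  | succ k ih =>
    intro x
    have h := hα ((α ^ k) x)
    rw [ih x] at h
    rw [pow_succ' n, mul_inv_rev]
    refine Eq.trans (congrArg ι (Subtype.ext ?_)) (h.trans (by group))
    rw [pow_succ', MulAut.mul_apply]

/-- Automorphisms of the system are induced by elements. -/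
theorem exists_element_of_aut (hF : F.IsRealizedBy ι) {P : Subgroup Ω} (hP : P ≤ S) {α : MulAut P}
    (hα : α ∈ F.autGroup P) :
    ∃ n : G, ∀ x : P, ι ⟨((α x : P) : Ω), hP (α x).2⟩ = n * ι ⟨x, hP x.2⟩ * n⁻¹ := by
  obtain ⟨g, hg, -⟩ := hom_conj hF (autGroup_mem_hom F hP hα)
  exact ⟨g, fun x => hg x⟩

/-- The subsystem over `T` of the maps induced by elements of `K`. -/
def kSystem (ι : S →* G) (K : Subgroup G) (T : Subgroup Ω) (hTS : T ≤ S)
    (hTK : ∀ t : T, ι ⟨t, hTS t.2⟩ ∈ K) : FusionSystem T where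
  Hom P := {φ | P ≤ T ∧ (∀ x : P, φ x ∈ T) ∧ Function.Injective φ ∧
    ∃ k ∈ K, ∀ (x : P) (h1 : φ x ∈ S) (h2 : (x : Ω) ∈ S), ι ⟨φ x, h1⟩ = k * ι ⟨x, h2⟩ * k⁻¹}
  le_of_mem h := ⟨h.1, h.2.1⟩
  injective_of_mem h := h.2.2.1
  conj_mem := by
    intro P g hP hg
    refine ⟨hP, fun x => T.mul_mem (T.mul_mem hg (hP x.2)) (T.inv_mem hg), ?_,
      ι ⟨g, hTS hg⟩, hTK ⟨g, hg⟩, fun x h1 h2 => ?_⟩
    · intro a b h
      exact Subtype.ext (mul_left_cancel (mul_right_cancel h))
    · rw [← map_inv, ← map_mul, ← map_mul]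
      exact congrArg ι (Subtype.ext rfl)
  comp_mem := by
    rintro P Q φ ψ ⟨hP, hφT, hφi, k, hk, hke⟩ ⟨hQ, hψT, hψi, l, hl, hle⟩ h
    refine ⟨hP, fun x => hψT _, fun a b e => hφi (congrArg Subtype.val (hψi e)), l * k,
      mul_mem hl hk, fun x h1 h2 => ?_⟩
    refine Eq.trans (hle ⟨φ x, h x⟩ h1 (hTS (hφT x))) ?_
    rw [hke x (hTS (hφT x)) h2]
    group
  inv_mem := by
    rintro P φ ⟨hP, hφT, hφi, k, hk, hke⟩
    let e := MonoidHom.ofInjective hφi
    refine ⟨P.subtype.comp e.symm.toMonoidHom, ⟨?_, fun x => hP (Subtype.coe_prop _),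
      fun a b h => e.symm.injective (Subtype.ext h), k⁻¹, inv_mem hk, fun y h1 h2 => ?_⟩, fun x => ?_⟩
    · rintro _ ⟨x, rfl⟩
      exact hφT x
    · obtain ⟨_, x, rfl⟩ := y
      have hxe : e.symm ⟨φ x, x, rfl⟩ = x := e.symm_apply_apply x
      show ι ⟨(e.symm ⟨φ x, x, rfl⟩ : P), h1⟩ = _
      have h3 := hke x h2 (hTS (hP x.2))
      rw [show (⟨(e.symm ⟨φ x, x, rfl⟩ : P), h1⟩ : S) = ⟨x, hTS (hP x.2)⟩ from
        Subtype.ext (congrArg (fun z : P => (z : Ω)) hxe), inv_inv]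
      show _ = k⁻¹ * ι ⟨φ x, h2⟩ * k
      rw [h3]
      group
    · exact congrArg Subtype.val (e.symm_apply_apply x)

variable {K : Subgroup G} {T : Subgroup Ω} {hTS : T ≤ S} {hTK : ∀ t : T, ι ⟨t, hTS t.2⟩ ∈ K}

theorem kSystem_sub (hF : F.IsRealizedBy ι) : (kSystem ι K T hTS hTK).IsSubsystemOf F := by
  rintro P φ ⟨hP, hφT, -, k, -, hke⟩
  exact (hF.2 P (hP.trans hTS) φ fun x => hTS (hφT x)).2 ⟨k, fun x => hke x _ _⟩

theorem kSystem_model [Finite G] [Fact p.Prime] [K.Normal] (hM : F.IsModel p G ι)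
    (hT : ∀ s : S, ι s ∈ K → (s : Ω) ∈ T) :
    (kSystem ι K T hTS hTK).IsModel p K ((ι.comp (Subgroup.inclusion hTS)).codRestrict K hTK) := by
  obtain ⟨-, hF, ⟨R, hR⟩, hC⟩ := hM
  set j := (ι.comp (Subgroup.inclusion hTS)).codRestrict K hTK
  have hj : Function.Injective j := fun a b h =>
    Subgroup.inclusion_injective hTS (hF.1 (congrArg Subtype.val h))
  refine ⟨inferInstance, ⟨hj, fun P hP φ hφ => ⟨?_, ?_⟩⟩, ?_, centralizer_pCore_normal hC K⟩
  · rintro ⟨-, -, -, k, hk, hke⟩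
    exact ⟨⟨k, hk⟩, fun x => Subtype.ext (hke x _ _)⟩
  · rintro ⟨k, hke⟩
    refine ⟨hP, hφ, fun a b h => ?_, k, k.2, fun x _ _ => congrArg Subtype.val (hke x)⟩
    have ha := hke a
    rw [show (⟨φ a, hφ a⟩ : T) = ⟨φ b, hφ b⟩ from Subtype.ext h, hke b] at ha
    exact Subtype.ext (congrArg Subtype.val (hj (mul_left_cancel (mul_right_cancel ha)))).symm
  · obtain ⟨Q, hQ⟩ := FusionSub.exists_sylow_eq_inf K R
    refine ⟨Q, ?_⟩
    rw [hQ, hR]
    ext k
    constructor
    · rintro ⟨s, hs⟩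
      refine ⟨⟨s, hT s ?_⟩, Subtype.ext hs⟩
      rw [hs]; exact k.2
    · rintro ⟨t, rfl⟩
      exact ⟨Subgroup.inclusion hTS t, rfl⟩

/-- The `p'`-residual of a system with a model. -/
theorem pGen_residual [Finite S] [Fact p.Prime] (hS : IsPGroup p S) (hF : F.IsSaturated p)
    (hM : F.IsModel p G ι) (h : ∀ t : S, ι ⟨t, le_rfl (a := S) t.2⟩ ∈ pGen p G) :
    F.IsPPrimeResidual p (kSystem ι (pGen p G) S le_rfl h) := by
  have : Finite G := hM.1
  have hmod := kSystem_model (hTS := le_rfl) (hTK := h) hM fun s _ => s.2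
  have hsat : (kSystem ι (pGen p G) S le_rfl h).IsSaturated p := by
    obtain ⟨-, hr, ⟨R, hR⟩, -⟩ := hmod
    exact saturated_of_realized hr R hR
  obtain ⟨-, hreal, ⟨R, hR⟩, hC⟩ := hM
  set O := pCore p G
  have hOr : O ≤ ι.range := (Cfsg.Agent.Cores.pCore_le_sylow R).trans hR.le
  obtain ⟨Q, hQS, hQ⟩ := exists_img_eq (ι := ι) hOr
  have hQc : F.IsCentric Q := by
    refine ⟨hQS, fun Q' hQ' => ?_⟩
    obtain ⟨-, hQ'S, g, hg⟩ := (isConj_iff_conj hreal).1 hQ'
    have hQ'O : img ι Q' = O := by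
      rw [← hg, hQ]
      exact Subgroup.mem_normalizer_iff_map_conj_eq.1 (by
        rw [Subgroup.normalizer_eq_top]; exact Subgroup.mem_top g)
    intro c hc
    have hcO : ι ⟨c, hc.1⟩ ∈ O := by
      refine hC (Subgroup.mem_centralizer_iff.2 fun y hy => ?_)
      obtain ⟨w, hw, rfl⟩ := mem_img.1 (hQ'O.ge hy)
      rw [← map_mul, ← map_mul]
      exact congrArg ι (Subtype.ext (Subgroup.mem_centralizer_iff.1 hc.2 _ hw))
    exact (img_apply_mem_iff hreal.1).1 (hQ'O.ge hcO)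
  refine ⟨hsat, ⟨kSystem_sub hreal, fun P hP => ?_⟩, fun D hD hDi P φ hφ => ?_⟩
  · have : Finite P := finite_of_le ‹_› hP
    rw [Subgroup.map_le_iff_le_comap, Subgroup.closure_le]
    rintro ⟨α, hα⟩ ⟨b, hb⟩
    obtain ⟨n, hn⟩ := exists_element_of_aut hreal hP hα
    rw [Subgroup.orderOf_mk] at hb
    obtain ⟨k, ⟨j, hj⟩, hk⟩ := (exists_lift_pow (p := p) n (o := orderOf α)).1 b hb
    have hαk : α ^ k = α := by
      conv_rhs => rw [← pow_one α]
      exact pow_eq_pow_iff_modEq.2 hk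
    have h2 := pow_induces hP hn k
    rw [hαk] at h2
    exact (mem_autGroup_iff_hom _ hP).2 ⟨hP, fun x => hP (α x).2,
      P.subtype_injective.comp α.injective, n ^ k, mem_pGen hj, fun x _ _ => h2 x⟩
  · obtain ⟨hP, hφS, -, g, hg, hge⟩ := hφ
    let H : Subgroup G :=
      { carrier := {g | ∃ α ∈ D.autGroup Q, ∀ x : Q,
          ι ⟨(((α : MulAut Q) x : Q) : Ω), hQS (Subtype.coe_prop _)⟩ = g * ι ⟨x, hQS x.2⟩ * g⁻¹}
        one_mem' := ⟨1, one_mem _, fun x => by simp⟩
        mul_mem' := by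
          rintro a b ⟨α, hα, ha⟩ ⟨β, hβ, hb⟩
          refine ⟨α * β, mul_mem hα hβ, fun x => ?_⟩
          refine Eq.trans (ha (β x)) ?_
          rw [hb x]; group
        inv_mem' := by
          rintro a ⟨α, hα, ha⟩
          refine ⟨α⁻¹, inv_mem hα, fun x => ?_⟩
          have h1 := ha (α⁻¹ x)
          have h2 : (⟨((α (α⁻¹ x) : Q) : Ω), hQS (Subtype.coe_prop _)⟩ : S) = ⟨x, hQS x.2⟩ :=
            Subtype.ext (congrArg (fun z : Q => (z : Ω)) (α.apply_symm_apply x))
          rw [h2] at h1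
          rw [h1]; group }
    have hnorm : ∀ n : G, ∀ y ∈ img ι Q, n * y * n⁻¹ ∈ img ι Q := fun n y hy => by
      rw [hQ] at hy ⊢
      exact (inferInstance : O.Normal).conj_mem y hy n
    have hle : pGen p G ≤ H := by
      rw [pGen, Subgroup.closure_le]
      rintro n ⟨j, hj⟩
      obtain ⟨α, hα, hαe⟩ := exists_aut_of_normalizes hreal hQS (hnorm n)
      have hαp : α ^ p ^ j = 1 := by
        refine MulEquiv.ext fun x => Subtype.ext ?_
        have h1 := pow_induces hQS hαe (p ^ j) x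
        rw [hj, inv_one, mul_one, one_mul] at h1
        exact (congrArg (fun z : S => (z : Ω)) (hreal.1 h1) :)
      obtain ⟨b, -, hb⟩ := (Nat.dvd_prime_pow Fact.out).1 (orderOf_dvd_of_pow_eq_one hαp)
      exact ⟨α, hDi.2 Q hQS ⟨⟨α, hα⟩, Subgroup.subset_closure ⟨b, by rw [Subgroup.orderOf_mk]; exact hb⟩, rfl⟩,
        hαe⟩
    obtain ⟨α, hα, hαe⟩ := hle hg
    have hαF : α ∈ F.autGroup Q := autGroup_mono hDi.1 Q hα
    obtain ⟨ψ, hψ, hψα, -, -⟩ := receptive_extend
      (saturated_receptive_of_fullyNormalized hS hD (FusionCrit.isFullyNormalized_of_normal D hQS (by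
        intro s hs
        refine Subgroup.mem_normalizer_iff.2 fun y => ?_
        have key : ∀ (s : Ω) (hs : s ∈ S) (y : Ω), y ∈ Q → s * y * s⁻¹ ∈ Q := by
          intro s hs y hy
          have := hnorm (ι ⟨s, hs⟩) _ (mem_img_of_mem hQS hy)
          rw [← map_inv, ← map_mul, ← map_mul, img_apply_mem_iff hreal.1] at this
          exact this
        refine ⟨key s hs y, fun hy => ?_⟩
        have := key s⁻¹ (S.inv_mem hs) _ hy
        simpa [mul_assoc] using this)))
      (autGroup_mem_hom D hQS hα) (range_subtype_comp α)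
    have hPE : P ⊔ Q ≤ extender S Q (Q.subtype.comp α.toMonoidHom) := by
      refine sup_le (fun x hx => Subgroup.subset_closure ⟨hP hx, ?_, φ ⟨x, hx⟩, hφS _, fun q hq => ?_⟩)
        (le_extender hQS fun q => hQS (α q).2)
      · refine Subgroup.mem_normalizer_iff.2 fun y => ?_
        have key : ∀ (s : Ω) (hs : s ∈ S) (y : Ω), y ∈ Q → s * y * s⁻¹ ∈ Q := by
          intro s hs y hy
          have := hnorm (ι ⟨s, hs⟩) _ (mem_img_of_mem hQS hy)
          rw [← map_inv, ← map_mul, ← map_mul, img_apply_mem_iff hreal.1] at this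
          exact this
        refine ⟨key x (hP hx) y, fun hy => ?_⟩
        have := key x⁻¹ (S.inv_mem (hP hx)) _ hy
        simpa [mul_assoc] using this
      · refine congrArg Subtype.val (hreal.1 (?_ : ι ⟨_, hQS (α ⟨_, hq⟩).2⟩ =
          ι (⟨φ ⟨x, hx⟩, hφS _⟩ * ⟨(α q : Ω), hQS (α q).2⟩ * ⟨φ ⟨x, hx⟩, hφS _⟩⁻¹)))
        rw [map_mul, map_mul, map_inv, hαe q, hge ⟨x, hx⟩ (hφS _) (hP hx)]
        refine (hαe ⟨_, hq⟩).trans ?_
        rw [show (⟨x * q * x⁻¹, hQS hq⟩ : S) = ⟨x, hP hx⟩ * ⟨q, hQS q.2⟩ * ⟨x, hP hx⟩⁻¹ from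
          Subtype.ext rfl, map_mul, map_mul, map_inv]
        group
    have hψr := restr_mem D hPE hψ
    have hres : ∀ (x : ↥(P ⊔ Q)), g * ι ⟨x, sup_le hP hQS x.2⟩ * g⁻¹ ∈ ι.range := by
      suffices P ⊔ Q ≤ ((ι.range.comap ((MulAut.conj g).toMonoidHom.comp ι))).map S.subtype by
        intro x
        obtain ⟨t, ht, hte⟩ := this x.2
        rw [show (⟨x, sup_le hP hQS x.2⟩ : S) = t from Subtype.ext hte.symm]
        exact ht
      refine sup_le (fun y hy => ⟨⟨y, hP hy⟩, ⟨_, hge ⟨y, hy⟩ (hφS _) (hP hy)⟩, rfl⟩)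
        (fun y hy => ⟨⟨y, hQS hy⟩, ⟨_, hαe ⟨y, hy⟩⟩, rfl⟩)
    obtain ⟨χ, hχ, hχe⟩ := exists_hom_of_conj hreal (sup_le hP hQS) (g := g) (by
      intro y hy
      obtain ⟨w, hw, rfl⟩ := mem_img.1 hy
      exact hres ⟨w, hw⟩)
    obtain ⟨z, hzQ, -, hz⟩ := maps_agree_on_centric hS hF (le_sup_right : Q ≤ P ⊔ Q) hQc
      (hDi.1 _ hψr) hχ fun x hx => by
        have h1 := hχe x (map_mem_S F hχ x)
        have h2 := hαe ⟨x, hx⟩
        have h3 : restr hPE ψ x = (α ⟨x, hx⟩ : Ω) := (congrArg ψ (Subtype.ext rfl)).trans (hψα ⟨x, hx⟩)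
        rw [h3]
        exact congrArg Subtype.val (hreal.1 (h2.trans h1.symm))
    have hPQS : P ⊔ Q ≤ S := sup_le hP hQS
    have hc : conjHom (P ⊔ Q) (z : Ω) ∈ D.Hom (P ⊔ Q) := D.conj_mem hPQS (hPQS z.2)
    have hm : ∀ x : ↥(P ⊔ Q), conjHom (P ⊔ Q) (z : Ω) x ∈ P ⊔ Q := fun x => (z * x * z⁻¹).2
    have hχD : χ ∈ D.Hom (P ⊔ Q) := comp_mem' D hc hψr hm fun x =>
      (hz x).trans (congrArg (restr hPE ψ) (Subtype.ext rfl))
    exact mem_of_restricts D le_sup_left hχD fun x => congrArg Subtype.val (hreal.1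
      ((hge x (hφS x) (hP x.2)).trans (hχe (Subgroup.inclusion le_sup_left x) (map_mem_S F hχ _)).symm))

/-- The `p`-residual of a system with a model. -/
theorem pResidual_system [Finite S] [Fact p.Prime] (hM : F.IsModel p G ι) :
    (∀ s : S, ι s ∈ pResidual p G ↔ (s : Ω) ∈ F.hyperfocalSubgroup p) ∧
    ∀ (h : ∀ t : F.hyperfocalSubgroup p, ι ⟨t, hyperfocal_le F t.2⟩ ∈ pResidual p G),
      (kSystem ι (pResidual p G) _ (hyperfocal_le F) h).HasPPowerIndexIn F p := by
  obtain ⟨hfin, hF, ⟨R, hR⟩, -⟩ := hM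
  set T := F.hyperfocalSubgroup p with hT
  have hTS : T ≤ S := hyperfocal_le F
  have helt : ∀ (P : Subgroup Ω) (hP : P ≤ S) (α : MulAut P), α ∈ F.autGroup P →
      (orderOf α).Coprime p → ∃ n ∈ pResidual p G, ∀ x : P,
        ι ⟨((α x : P) : Ω), hP (α x).2⟩ = n * ι ⟨x, hP x.2⟩ * n⁻¹ := by
    intro P hP α hα ho
    obtain ⟨n, hn⟩ := exists_element_of_aut hF hP hα
    obtain ⟨k, hk1, hk⟩ := (exists_lift_pow (p := p) n (o := orderOf α)).2 ho
    have hαk : α ^ k = α := by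
      conv_rhs => rw [← pow_one α]
      exact pow_eq_pow_iff_modEq.2 hk
    have h2 := pow_induces hP hn k
    rw [hαk] at h2
    exact ⟨n ^ k, Subgroup.subset_closure hk1, h2⟩
  refine ⟨fun s => ⟨fun hs => ?_, fun hs => ?_⟩, fun h => ⟨kSystem_sub hF, le_rfl, fun P hP => ?_⟩⟩
  · have h0 : ι s ∈ (groupFusionSystem (R : Subgroup G)).hyperfocalSubgroup p := by
      rw [hyperfocal_group_eq R]
      exact ⟨hR.ge ⟨s, rfl⟩, hs⟩
    suffices hle : (groupFusionSystem (R : Subgroup G)).hyperfocalSubgroup p ≤ img ι T from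
      (img_apply_mem_iff hF.1).1 (hle h0)
    rw [hyperfocalSubgroup, Subgroup.closure_le]
    rintro _ ⟨P', α, x, hP', hα, rfl⟩
    obtain ⟨P, hP, rfl⟩ := exists_img_eq (ι := ι) (hP'.trans hR.le)
    let f := (img ι P).normalizerMonoidHom.codRestrict
      ((groupFusionSystem (R : Subgroup G)).autGroup (img ι P)) (normalizerMonoidHom_mem_autGroup hP')
    have hf : Function.Surjective f := fun β => by
      obtain ⟨n, hn⟩ := autGroup_group_le_range _ _ β.2
      exact ⟨n, Subtype.ext hn⟩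
    rw [← Cfsg.Agent.Cores.map_pResidual_of_surjective f hf] at hα
    obtain ⟨n, hn, rfl⟩ := hα
    show (x : G)⁻¹ * ((n : G) * x * (n : G)⁻¹) ∈ img ι T
    revert x
    induction hn using Subgroup.closure_induction with
    | mem n hn =>
      intro x
      obtain ⟨w, hw, hwx⟩ := mem_img.1 x.2
      obtain ⟨β, hβ, hβe⟩ := exists_aut_of_normalizes hF hP (n := (n : G)) fun y hy =>
        (Subgroup.mem_normalizer_iff.1 n.2 y).1 hy
      have hβ1 : β ^ orderOf n = 1 := by
        refine MulEquiv.ext fun y => Subtype.ext ?_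
        have h1 := pow_induces hP hβe (orderOf n) y
        rw [← Subgroup.coe_pow, pow_orderOf_eq_one, Subgroup.coe_one, inv_one, mul_one, one_mul] at h1
        exact (congrArg (fun z : S => (z : Ω)) (hF.1 h1) :)
      have hgen : ((⟨w, hw⟩ : P) : Ω)⁻¹ * ((β ⟨w, hw⟩ : P) : Ω) ∈ T :=
        Subgroup.subset_closure ⟨P, ⟨β, hβ⟩, ⟨w, hw⟩, hP, Subgroup.subset_closure (by
          show Nat.Coprime (orderOf (⟨β, hβ⟩ : F.autGroup P)) p
          rw [Subgroup.orderOf_mk]
          exact Nat.Coprime.coprime_dvd_left (orderOf_dvd_of_pow_eq_one hβ1) hn), rfl⟩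
      refine mem_img.2 ⟨w⁻¹ * ⟨((β ⟨w, hw⟩ : P) : Ω), hP (β _).2⟩, hgen, ?_⟩
      rw [map_mul, map_inv, hβe ⟨w, hw⟩, ← hwx]
    | one => intro x; simp
    | mul a b _ _ iha ihb =>
      intro x
      have hy : (b : G) * x * (b : G)⁻¹ ∈ img ι P := (Subgroup.mem_normalizer_iff.1 b.2 _).1 x.2
      have := mul_mem (ihb x) (iha ⟨_, hy⟩)
      convert this using 1
      simp only [Subgroup.coe_mul]
      group
    | inv a _ iha =>
      intro x
      have hy : (a : G)⁻¹ * x * (a : G) ∈ img ι P := by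
        have := (Subgroup.mem_normalizer_iff.1 (inv_mem a.2) _).1 x.2
        rwa [inv_inv] at this
      have := inv_mem (iha ⟨_, hy⟩)
      convert this using 1
      simp only [Subgroup.coe_inv]
      group
  · suffices hle : T ≤ ((pResidual p G).comap ι).map S.subtype by
      obtain ⟨t, ht, hte⟩ := hle hs
      rw [← show t = s from Subtype.ext hte]
      exact ht
    rw [hT, hyperfocalSubgroup, Subgroup.closure_le]
    rintro _ ⟨P, α, x, hP, hα, rfl⟩
    have key : ∀ β : F.autGroup P, β ∈ pResidual p (F.autGroup P) → ∀ x : P,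
        ι (⟨x, hP x.2⟩⁻¹ * ⟨(((β : MulAut P) x : P) : Ω), hP (Subtype.coe_prop _)⟩) ∈ pResidual p G := by
      intro β hβ
      induction hβ using Subgroup.closure_induction with
      | mem β hβ =>
        intro x
        have hβ' : (orderOf (β : MulAut P)).Coprime p := by rwa [Subgroup.orderOf_coe]
        obtain ⟨n, hn, hne⟩ := helt P hP β β.2 hβ'
        rw [map_mul, map_inv, hne x, ← mul_assoc]
        refine mul_mem ?_ (inv_mem hn)
        rw [← mul_assoc]
        have := (inferInstance : (pResidual p G).Normal).conj_mem n hn (ι ⟨x, hP x.2⟩)⁻¹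
        rwa [inv_inv] at this
      | one => intro x; simp
      | mul a b _ _ iha ihb =>
        intro x
        have := mul_mem (ihb x) (iha ((b : MulAut P) x))
        rw [← map_mul] at this
        convert this using 2
        simp [mul_assoc]
      | inv a _ iha =>
        intro x
        have := inv_mem (iha ((a : MulAut P)⁻¹ x))
        rw [← map_inv] at this
        convert this using 2
        refine Subtype.ext ?_
        simp
    exact ⟨_, key α hα x, rfl⟩
  · rw [Subgroup.map_le_iff_le_comap, pResidual, Subgroup.closure_le]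
    rintro ⟨α, hα⟩ ho
    have ho' : (orderOf α).Coprime p := by
      have h1 : (orderOf (⟨α, hα⟩ : F.autGroup P)).Coprime p := ho
      rwa [Subgroup.orderOf_mk] at h1
    obtain ⟨n, hn, hne⟩ := helt P (hP.trans hTS) α hα ho'
    exact (mem_autGroup_iff_hom _ hP).2 ⟨hP, fun x => hP (α x).2,
      P.subtype_injective.comp α.injective, n, hn, fun x _ _ => hne x⟩

end Cfsg.Agent.FusionQd
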