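import Cfsg.Agent.FusionQd.ResidualGroup
import Cfsg.Agent.FusionSub.Solvable
import Cfsg.Agent.FusionAux.Tate
import Cfsg.Agent.S5120
import Cfsg.Agent.S5141

/-!
# Terminating residual series and `p`-solvable models
-/

set_option autoImplicit false
set_option linter.all false

open Cfsg Cfsg.FusionSystem Cfsg.Agent.FusionSys Cfsg.Agent.FusionSub
open scoped commutatorElement

namespace Cfsg.Agent.FusionQd

universe u

variable {Ω : Type u} [Group Ω] {p : ℕ}

theorem pGen_self {G : Type u} [Group G] : pGen p (pGen p G) = ⊤ := by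
  refine eq_top_iff.2 ((Subgroup.closure_closure_coe_preimage
    (k := {g : G | ∃ k : ℕ, g ^ p ^ k = 1})).ge.trans (Subgroup.closure_mono ?_))
  rintro x ⟨k, hk⟩
  exact ⟨k, Subtype.ext hk⟩

theorem map_mem_pGen {S : Subgroup Ω} {G : Type u} [Group G] (hS : IsPGroup p S) (ι : S →* G)
    (s : S) : ι s ∈ pGen p G := by
  obtain ⟨k, hk⟩ := hS s
  exact mem_pGen (k := k) (by rw [← map_pow, hk, map_one])

theorem isPGroup_quotient_pResidual {G : Type u} [Group G] [Finite G] [Fact p.Prime] :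
    IsPGroup p (G ⧸ pResidual p G) := by
  intro x
  obtain ⟨g, rfl⟩ := QuotientGroup.mk_surjective x
  obtain ⟨b, m, hm, hg⟩ := Nat.exists_eq_pow_mul_and_not_dvd (orderOf_pos g).ne' p
    (Fact.out : p.Prime).ne_one
  refine ⟨b, ?_⟩
  rw [← QuotientGroup.mk_pow, QuotientGroup.eq_one_iff]
  refine Subgroup.subset_closure ?_
  show (orderOf (g ^ p ^ b)).Coprime p
  refine Nat.Coprime.coprime_dvd_left (orderOf_dvd_of_pow_eq_one ?_)
    (((Fact.out : p.Prime).coprime_iff_not_dvd.2 hm).symm)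
  rw [← pow_mul, ← hg, pow_orderOf_eq_one]

theorem coprime_card_quotient_pGen {G : Type u} [Group G] [Finite G] [Fact p.Prime] :
    (Nat.card (G ⧸ pGen p G)).Coprime p := by
  refine Nat.Coprime.symm ((Fact.out : p.Prime).coprime_iff_not_dvd.2 fun hd => ?_)
  obtain ⟨x, hx⟩ := exists_prime_orderOf_dvd_card' p hd
  obtain ⟨g, rfl⟩ := QuotientGroup.mk_surjective x
  obtain ⟨k, ⟨j, hj⟩, hk⟩ := (exists_lift_pow (p := p) g (o := p)).1 1 (pow_one p).symm
  have h1 : ((g ^ k : G) : G ⧸ pGen p G) = 1 := (QuotientGroup.eq_one_iff _).2 (mem_pGen hj)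
  have h2 : (g : G ⧸ pGen p G) ^ k = (g : G ⧸ pGen p G) := by
    conv_rhs => rw [← pow_one (g : G ⧸ pGen p G)]
    exact pow_eq_pow_iff_modEq.2 (by rw [hx]; exact hk)
  rw [QuotientGroup.mk_pow, h2] at h1
  rw [h1, orderOf_one] at hx
  exact (Fact.out : p.Prime).ne_one hx.symm

/-- A constrained system with a `p`-solvable model has a terminating residual series. -/
theorem terminating_of_model [Fact p.Prime] : ∀ (n : ℕ) {S : Subgroup Ω} [Finite S],
    Nat.card S = n → IsPGroup p S → ∀ (F : FusionSystem S), F.IsSaturated p →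
    ∀ (G : Type u) [Group G] (ι : S →* G), F.IsModel p G ι → IsPSolvable p G →
      F.HasTerminatingResidualSeries p := by
  intro n
  induction n using Nat.strong_induction_on with
  | _ n ih =>
    intro S _ hn hS F hF G _ ι hM hs
    by_cases hbot : S = ⊥
    · exact .trivial F p hbot
    have : Finite G := hM.1
    have hι := hM.2.1.1
    have h : ∀ t : S, ι ⟨t, le_rfl (a := S) t.2⟩ ∈ pGen p G := fun t => map_mem_pGen hS ι _
    have hres := pGen_residual hS hF hM h
    have hEM := kSystem_model (hTS := le_rfl) (hTK := h) hM fun s _ => s.2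
    set E := kSystem ι (pGen p G) S le_rfl h
    set j := (ι.comp (Subgroup.inclusion (le_refl S))).codRestrict (pGen p G) h
    have hj : Function.Injective j := hEM.2.1.1
    have : Nontrivial (pGen p G) := by
      have : Nontrivial S := (Subgroup.nontrivial_iff_ne_bot S).2 hbot
      exact hj.nontrivial
    have hGs := Cfsg.Agent.PSolv.isPSolvable_subgroup hs (pGen p G)
    have hne := pResidual_ne_top hGs pGen_self
    obtain ⟨hiff, hidx⟩ := pResidual_system hEM
    set T := E.hyperfocalSubgroup p with hT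
    have hTS : T ≤ S := hyperfocal_le E
    have hK : ∀ t : T, j ⟨t, hTS t.2⟩ ∈ pResidual p (pGen p G) := fun t => (hiff _).2 t.2
    have hDM := kSystem_model (hTS := hTS) (hTK := hK) hEM fun s hs => (hiff s).1 hs
    set D := kSystem j (pResidual p (pGen p G)) T hTS hK
    have hDsat : D.IsSaturated p := by
      obtain ⟨-, hr, ⟨R, hR⟩, -⟩ := hDM
      exact saturated_of_realized hr R hR
    have : Finite T := finite_of_le ‹_› hTS
    have hlt : Nat.card T < n := by
      rw [← hn]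
      refine Cfsg.Agent.FusionAlperin.card_lt_of_lt le_rfl (lt_of_le_of_ne hTS fun he => hne ?_)
      obtain ⟨R, hR⟩ := hEM.2.2.1
      have hRK : (R : Subgroup (pGen p G)) ≤ pResidual p (pGen p G) := by
        rw [hR]
        rintro _ ⟨s, rfl⟩
        exact (hiff s).2 (he.ge s.2)
      have hcop : (pResidual p (pGen p G)).index.Coprime p :=
        Nat.Coprime.coprime_dvd_left (Subgroup.index_dvd_of_le hRK)
          ((Fact.out : p.Prime).coprime_iff_not_dvd.2 R.not_dvd_index).symm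
      refine eq_top_iff.2 (pGen_self.ge.trans ((Subgroup.closure_le _).2 ?_))
      rintro g ⟨k, hk⟩
      refine (QuotientGroup.eq_one_iff (N := pResidual p (pGen p G)) g).1 (orderOf_eq_one_iff.1 ?_)
      refine Nat.eq_one_of_dvd_coprimes (Nat.Coprime.pow_left k hcop.symm) ?_ (orderOf_dvd_natCard _)
      exact orderOf_dvd_of_pow_eq_one (by rw [← QuotientGroup.mk_pow, hk]; rfl)
    exact .step F E p D hres ⟨hDsat, hidx hK⟩ (ih _ hlt rfl (hS.to_le hTS) D hDsat _ _ hDM
      (Cfsg.Agent.PSolv.isPSolvable_subgroup hGs _))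

/-- A system is invariant in itself. -/
theorem invariant_self {S : Subgroup Ω} (F : FusionSystem S) : F.IsInvariantIn F := by
  refine ⟨fun P => subset_rfl, ⟨le_rfl, fun R _ φ hφ x => map_mem_S F hφ x⟩,
    fun P hPT φ hφ α hα => ?_, fun P _ φ hφ => ?_⟩
  · set P' := (P.subgroupOf S).map (S.subtype.comp α.toMonoidHom)
    have hP' : P' ≤ S := by
      rintro _ ⟨x, -, rfl⟩
      exact (α x).2
    have h1 : restr hP' (S.subtype.comp (α⁻¹ : MulAut S).toMonoidHom) ∈ F.Hom P' :=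
      restr_mem F hP' (autGroup_mem_hom F le_rfl (inv_mem hα))
    have hm : ∀ y : P', restr hP' (S.subtype.comp (α⁻¹ : MulAut S).toMonoidHom) y ∈ P := by
      rintro ⟨_, x, hx, rfl⟩
      show ((α.symm (α x) : S) : Ω) ∈ P
      rw [MulEquiv.symm_apply_apply]
      exact hx
    let ψ : P →* Ω := (S.subtype.comp α.toMonoidHom).comp (φ.codRestrict S (map_mem_S F hφ))
    have hψ : ψ ∈ F.Hom P :=
      comp_mem' F hφ (autGroup_mem_hom F le_rfl hα) (map_mem_S F hφ) fun x => rfl
    refine ⟨ψ.comp ((restr hP' (S.subtype.comp (α⁻¹ : MulAut S).toMonoidHom)).codRestrict P hm),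
      comp_mem' F h1 hψ hm fun y => rfl, fun x hφx hαx => ?_⟩
    show ψ ⟨_, hm ⟨_, hαx⟩⟩ = _
    rw [show (⟨_, hm ⟨_, hαx⟩⟩ : P) = x from Subtype.ext
      (congrArg (fun z : S => (z : Ω)) (α.symm_apply_apply ⟨x, hPT x.2⟩))]
    rfl
  · exact ⟨1, one_mem _, φ, hφ, fun x hx => rfl⟩

section Transfer

variable {S : Subgroup Ω} {F : FusionSystem S} {T : Subgroup Ω} {D : FusionSystem T}

/-- The elements of `T` whose images under all automorphisms of `T` lie in `R`. -/
def star (F : FusionSystem S) (T R : Subgroup Ω) : Subgroup Ω where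
  carrier := {x | ∃ hx : x ∈ T, ∀ α ∈ F.autGroup T, ((α ⟨x, hx⟩ : T) : Ω) ∈ R}
  one_mem' := ⟨one_mem _, fun α _ => by
    rw [show α ⟨1, one_mem _⟩ = 1 from map_one α]; exact one_mem _⟩
  mul_mem' := by
    rintro a b ⟨ha, ha'⟩ ⟨hb, hb'⟩
    refine ⟨mul_mem ha hb, fun α hα => ?_⟩
    rw [show (⟨a * b, mul_mem ha hb⟩ : T) = ⟨a, ha⟩ * ⟨b, hb⟩ from rfl, map_mul]
    exact mul_mem (ha' α hα) (hb' α hα)
  inv_mem' := by
    rintro a ⟨ha, ha'⟩
    refine ⟨inv_mem ha, fun α hα => ?_⟩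
    rw [show (⟨a⁻¹, inv_mem ha⟩ : T) = ⟨a, ha⟩⁻¹ from rfl, map_inv]
    exact inv_mem (ha' α hα)

theorem star_sc (hD : D.IsInvariantIn F) {R : Subgroup Ω} (hR : D.StronglyClosed R) :
    F.StronglyClosed (star F T R) := by
  refine ⟨fun x hx => hD.2.1.1 hx.1, fun Q hQ φ hφ x => ?_⟩
  obtain ⟨hxT, hx⟩ := hQ x.2
  have hQT : Q ≤ T := fun y hy => (hQ hy).1
  have hφT : φ x ∈ T := hD.2.1.2 Q hQT φ hφ x
  refine ⟨hφT, fun β hβ => ?_⟩
  obtain ⟨α, hα, φ₀, hφ₀, he⟩ := hD.2.2.2 Q hQT φ hφ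
  have hx₀ : φ₀ x ∈ T := map_mem_S D hφ₀ x
  obtain ⟨χ, hχ, hχe⟩ := hD.2.2.1 Q hQT φ₀ hφ₀ (β * α) (mul_mem hβ hα)
  have hmem : (((β * α) ⟨x, hQT x.2⟩ : T) : Ω) ∈
      (Q.subgroupOf T).map (T.subtype.comp (β * α).toMonoidHom) := ⟨⟨x, hQT x.2⟩, x.2, rfl⟩
  have h1 := hχe x hx₀ hmem
  rw [show (⟨φ x, hφT⟩ : T) = α ⟨φ₀ x, hx₀⟩ from Subtype.ext (he x hx₀)]
  show (((β * α) ⟨φ₀ x, hx₀⟩ : T) : Ω) ∈ R
  rw [← h1]
  exact Cfsg.Agent.FusionAlperin.sc_map_mem hR hχ (x := ⟨_, hmem⟩) (hx _ (mul_mem hβ hα))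

/-- Series of a subsystem invariant in `F` give series of `F`. -/
theorem abSeries_of_invariant (hD : D.IsInvariantIn F) (hT : AbSeries F T) (h : AbSeries D ⊥) :
    AbSeries F ⊥ := by
  have hTS := hD.2.1.1
  have key : ∀ R, AbSeries D R → AbSeries F (star F T R) := by
    intro R hR
    induction hR with
    | top =>
      rw [show star F T T = T from le_antisymm (fun x hx => hx.1)
        fun x hx => ⟨hx, fun α _ => (α _).2⟩]
      exact hT
    | @step R R' hle hsc hc _ ih =>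
      refine .step (R := star F T R) (R' := star F T R') (fun x hx => ⟨hx.1, fun α hα => hle (hx.2 α hα)⟩) (star_sc hD hsc) ?_ ih
      refine Subgroup.commutator_le.2 fun a hA b hB => ?_
      obtain ⟨ha, ha'⟩ := hA
      obtain ⟨hb, hb'⟩ := hB
      refine ⟨(⁅(⟨a, ha⟩ : T), ⟨b, hb⟩⁆ : T).2, fun α hα => ?_⟩
      rw [show (⟨⁅a, b⁆, (⁅(⟨a, ha⟩ : T), ⟨b, hb⟩⁆ : T).2⟩ : T) = ⁅(⟨a, ha⟩ : T), ⟨b, hb⟩⁆ from
        rfl, map_commutatorElement]
      exact hc (Subgroup.commutator_mem_commutator (ha' α hα) (hb' α hα))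
  have h0 : star F T ⊥ = ⊥ := (Subgroup.eq_bot_iff_forall _).2 fun x hx =>
    Subgroup.mem_bot.1 (by simpa using hx.2 1 (one_mem _))
  exact h0 ▸ key ⊥ h

end Transfer

/-- The series between the hyperfocal subgroup and `S`. -/
theorem abSeries_hyperfocal [Fact p.Prime] {S : Subgroup Ω} [Finite S] (hS : IsPGroup p S)
    {F : FusionSystem S} (hF : F.IsSaturated p) : AbSeries F (F.hyperfocalSubgroup p) := by
  set T := F.hyperfocalSubgroup p
  have hTS : T ≤ S := hyperfocal_le F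
  have : (T.subgroupOf S).Normal := (Subgroup.normal_subgroupOf_iff_le_normalizer hTS).2
    (FusionAux.hyperfocal_le_normalizer F)
  let R : ℕ → Subgroup Ω := fun k =>
    ((derivedSeries (S ⧸ T.subgroupOf S) k).comap (QuotientGroup.mk' (T.subgroupOf S))).map S.subtype
  have hmem : ∀ k (s : S), (s : Ω) ∈ R k ↔
      QuotientGroup.mk' (T.subgroupOf S) s ∈ derivedSeries (S ⧸ T.subgroupOf S) k := fun k s =>
    ⟨fun ⟨s', h, e⟩ => by rw [← show s' = s from Subtype.ext e]; exact h, fun h => ⟨s, h, rfl⟩⟩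
  have hRS : ∀ k, R k ≤ S := fun k x ⟨s, _, e⟩ => e ▸ s.2
  have hsc : ∀ k, F.StronglyClosed (R k) := fun k => ⟨hRS k, fun Q hQ φ hφ x => by
    obtain ⟨t, ht, he⟩ := FusionAux.exists_conj_mod_hyperfocal hS hF hφ
    have hxS := hRS k (hQ x.2)
    refine (hmem k ⟨φ x, map_mem_S F hφ x⟩).2 ?_
    have h1 : QuotientGroup.mk' (T.subgroupOf S) ⟨φ x, map_mem_S F hφ x⟩ =
        QuotientGroup.mk' (T.subgroupOf S) (⟨t, ht⟩ * ⟨x, hxS⟩ * ⟨t, ht⟩⁻¹) :=
      Eq.symm (QuotientGroup.eq.2 (show ((⟨t, ht⟩ * ⟨x, hxS⟩ * ⟨t, ht⟩⁻¹ : S)⁻¹ *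
        ⟨φ x, map_mem_S F hφ x⟩) ∈ T.subgroupOf S from he x))
    rw [h1, map_mul, map_mul, map_inv]
    exact (derivedSeries_normal _ k).conj_mem _ ((hmem k ⟨x, hxS⟩).1 (hQ x.2)) _⟩
  have hstep : ∀ k, AbSeries F (R k) := by
    intro k
    induction k with
    | zero =>
      rw [show R 0 = S from le_antisymm (hRS 0) fun x hx =>
        (hmem 0 ⟨x, hx⟩).2 (by rw [derivedSeries_zero]; exact Subgroup.mem_top _)]
      exact .top
    | succ k ih =>
      refine .step ?_ (hsc k) ?_ ih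
      · rintro _ ⟨s, hs, rfl⟩
        exact ⟨s, derivedSeries_antitone _ (Nat.le_succ k) hs, rfl⟩
      · refine Subgroup.commutator_le.2 fun a ha b hb => ?_
        refine (hmem (k + 1) ⁅(⟨a, hRS k ha⟩ : S), ⟨b, hRS k hb⟩⁆).2 ?_
        rw [map_commutatorElement, derivedSeries_succ]
        exact Subgroup.commutator_mem_commutator ((hmem k ⟨a, hRS k ha⟩).1 ha) ((hmem k ⟨b, hRS k hb⟩).1 hb)
  have : Group.IsNilpotent (S ⧸ T.subgroupOf S) := (hS.to_quotient _).isNilpotent
  obtain ⟨n, hn⟩ := (Group.isSolvable_def (S ⧸ T.subgroupOf S)).1 inferInstance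
  have hT : R n = T := by
    refine le_antisymm (fun x hx => ?_) fun x hx => (hmem n ⟨x, hTS hx⟩).2 ?_
    · have := (hmem n ⟨x, hRS n hx⟩).1 hx
      rw [hn, Subgroup.mem_bot] at this
      exact (QuotientGroup.eq_one_iff (N := T.subgroupOf S) ⟨x, hRS n hx⟩).1 this
    · rw [hn, Subgroup.mem_bot]
      exact (QuotientGroup.eq_one_iff (N := T.subgroupOf S) ⟨x, hTS hx⟩).2 hx
  exact hT ▸ hstep n

/-- A system with a terminating residual series is solvable and its models are `p`-solvable. -/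
theorem terminating_forward {S : Subgroup Ω} {F : FusionSystem S}
    (h : F.HasTerminatingResidualSeries p) :
    ∀ [Fact p.Prime] [Finite S], IsPGroup p S → F.IsSaturated p →
      AbSeries F ⊥ ∧ ∀ (G : Type u) [Group G] (ι : S →* G), F.IsModel p G ι → IsPSolvable p G := by
  induction h with
  | @trivial S F p hbot =>
    intro _ _ hS hF
    subst hbot
    refine ⟨.top, fun G _ ι hM => ?_⟩
    obtain ⟨hfin, -, ⟨R, hR⟩, hC⟩ := hM
    have hO : pCore p G = ⊥ := eq_bot_iff.2 ((Cfsg.Agent.Cores.pCore_le_sylow R).trans (hR.le.trans (by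
      rintro _ ⟨s, rfl⟩
      rw [show s = 1 from Subtype.ext (Subgroup.mem_bot.1 s.2), map_one]
      exact one_mem _)))
    rw [hO] at hC
    have : Subsingleton G := ⟨fun a b => by
      have ha := hC (show a ∈ Subgroup.centralizer ((⊥ : Subgroup G) : Set G) from
        Subgroup.mem_centralizer_iff.2 fun y hy => by
          rw [show y = 1 from Subgroup.mem_bot.1 hy, one_mul, mul_one])
      have hb := hC (show b ∈ Subgroup.centralizer ((⊥ : Subgroup G) : Set G) from
        Subgroup.mem_centralizer_iff.2 fun y hy => by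
          rw [show y = 1 from Subgroup.mem_bot.1 hy, one_mul, mul_one])
      rw [Subgroup.mem_bot.1 ha, Subgroup.mem_bot.1 hb]⟩
    exact Cfsg.Agent.PSolv.isPSolvable_of_coprime (by rw [Nat.card_unique]; exact Nat.coprime_one_left p)
  | @step S F E p D hE hD _ ih =>
    intro _ _ hS hF
    have hTS : E.hyperfocalSubgroup p ≤ S := hyperfocal_le E
    have : Finite (E.hyperfocalSubgroup p) := finite_of_le ‹_› hTS
    obtain ⟨hAb, hsolv⟩ := ih (hS.to_le hTS) hD.1
    refine ⟨?_, fun G _ ι hM => ?_⟩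
    · have hDn : D.IsNormalIn E p := Cfsg.Agent.S5120.result p hS E hE.1 _ hTS
        ((Subgroup.normal_subgroupOf_iff_le_normalizer hTS).2 (FusionAux.hyperfocal_le_normalizer E))
        le_rfl D hD.1 hD.2
      have hEF : E.IsNormalIn F p := Cfsg.Agent.S5141.result p hS F hF F
        ⟨hF, hF, invariant_self F⟩ E hE
      exact abSeries_of_invariant hEF.1.2.2 .top
        (abSeries_of_invariant hDn.1.2.2 (abSeries_hyperfocal hS hE.1) hAb)
    · have : Finite G := hM.1
      have hh : ∀ t : S, ι ⟨t, le_rfl (a := S) t.2⟩ ∈ pGen p G := fun t => map_mem_pGen hS ι _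
      obtain rfl := pPrimeResidual_unique hE (pGen_residual hS hF hM hh)
      have hEM := kSystem_model (hTS := le_rfl) (hTK := hh) hM fun s _ => s.2
      obtain ⟨hiff, hidx⟩ := pResidual_system hEM
      have hK := fun t : (kSystem ι (pGen p G) S le_rfl hh).hyperfocalSubgroup p =>
        (hiff ⟨t, hTS t.2⟩).2 t.2
      have hDM := kSystem_model (hTS := hTS) (hTK := hK) hEM fun s hs => (hiff s).1 hs
      have hsat : (kSystem _ _ _ hTS hK).IsSaturated p := by
        obtain ⟨-, hr, ⟨R, hR⟩, -⟩ := hDM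
        exact saturated_of_realized hr R hR
      obtain rfl := pPowerIndex_unique (hS.to_le hTS) hD.1 hsat hD.2 (hidx hK)
      exact Cfsg.Agent.PSolv.isPSolvable_of_extension (pGen p G)
        (Cfsg.Agent.PSolv.isPSolvable_of_extension (pResidual p (pGen p G))
          (hsolv _ _ hDM)
          (Cfsg.Agent.PSolv.isPSolvable_of_isPGroup isPGroup_quotient_pResidual))
        (Cfsg.Agent.PSolv.isPSolvable_of_coprime coprime_card_quotient_pGen)

end Cfsg.Agent.FusionQd
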