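import Cfsg.Agent.FusionQd.CenterLocal
import Cfsg.Agent.FusionBatch.ThompsonCenter

/-!
# The normalizer of the Thompson subgroup and the centre, all primes
-/

set_option autoImplicit false
set_option linter.all false

open Cfsg Cfsg.FusionSystem Cfsg.Agent.FusionSys Cfsg.Agent.FusionModel
open Cfsg.Agent.FusionBatch.ThompsonCenter

namespace Cfsg.Agent.FusionQd

universe u w

/-- The local condition for the Thompson functor. -/
theorem localCond_jA {p : ℕ} [Fact p.Prime] {H : Type w} [Group H] (root : Prop)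
    (h : ∀ (L : Type u) [Group L] [Finite L], ¬ Involves H L →
      p ≠ 2 ∨ root ∨ ¬ Involves (Equiv.Perm (Fin 4)) L) :
    LocalCond (fun Q [Group Q] => jA.{u} Q) H p root := by
  intro L _ _ P x hx hr hni hn g
  have hOP : pCore p L ≤ (P : Subgroup L) := Cores.pCore_le_sylow P
  refine LocalP.wc_thompson P (hOP hx) (Subgroup.mem_centralizer_iff.2 hn) ?_ g
    (hOP ((inferInstance : (pCore p L).Normal).conj_mem _ hx g))
  rcases h L hni with h | h | h
  · exact Or.inl h
  · obtain ⟨w, hw, hwc, hwx⟩ := hr h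
    exact Or.inr (Or.inl ⟨w, ⟨hw, Subgroup.mem_centralizer_iff.2 hwc⟩, hwx⟩)
  · exact Or.inr (Or.inr h)

theorem not_involves_int {L : Type u} [Group L] [Finite L] :
    ¬ Involves (Multiplicative ℤ) L := by
  rintro ⟨K, R, hn, ⟨e⟩⟩
  haveI := hn
  exact not_finite_iff_infinite.2 inferInstance (Finite.of_equiv _ e.toEquiv)

variable {Ω : Type u} [Group Ω] {S : Subgroup Ω}

theorem le_center_of_normalizer [Finite S] {p : ℕ} [Fact p.Prime] (hS : IsPGroup p S)
    {F : FusionSystem S} (hF : F.IsSaturated p) {H : Type w} [Group H]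
    (hfree : F.IsSectionFree p H) (root : Prop)
    (hH : ∀ (L : Type u) [Group L] [Finite L], ¬ Involves H L →
      p ≠ 2 ∨ root ∨ ¬ Involves (Equiv.Perm (Fin 4)) L)
    (N : FusionSystem (normalizerIn S (thompsonSubgroupAOf S)))
    (hN : F.IsNormalizerSystem (thompsonSubgroupAOf S) N) {x : Ω} (hx : x ∈ N.center)
    (hroot : root → ∃ w ∈ S, (∀ y ∈ S, y * w = w * y) ∧ w ^ p = x) : x ∈ F.center := by
  have hW : Natural (fun Q [Group Q] => jA.{u} Q) p := jA_natural p
  have hfn : F.IsFullyNormalized (thompsonSubgroupAOf S) := fullyNormalized_wOf hW hS F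
  have hNp : IsPGroup p ↥(normalizerIn S (thompsonSubgroupAOf S)) := hS.to_le inf_le_left
  have hNsat := normalizerSystem_saturated hS hF hfn hN
  rw [mem_center_iff_fixes hNp hNsat] at hx
  obtain ⟨hx, h⟩ := hx
  rw [mem_center_iff_fixes hS hF]
  refine ⟨hx.1, fixes_of_normalizer (W := fun Q [Group Q] => jA.{u} Q) (H := H) (root := root)
    (fun Q _ _ _ => center_le_jA Q) hW (localCond_jA root hH) _ _ hS F hF
    (locallyFree_of_sectionFree hS hF hfree) rfl rfl x hx.1 hroot fun P φ hφ => h P φ ?_⟩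
  rw [hN P]
  exact hφ

theorem center_le_normalizer [Finite S] {p : ℕ} [Fact p.Prime] (hS : IsPGroup p S)
    {F : FusionSystem S} (hF : F.IsSaturated p)
    (N : FusionSystem (normalizerIn S (thompsonSubgroupAOf S)))
    (hN : F.IsNormalizerSystem (thompsonSubgroupAOf S) N) : F.center ≤ N.center := by
  have hW : Natural (fun Q [Group Q] => jA.{u} Q) p := jA_natural p
  have hfn : F.IsFullyNormalized (thompsonSubgroupAOf S) := fullyNormalized_wOf hW hS F
  have hNp : IsPGroup p ↥(normalizerIn S (thompsonSubgroupAOf S)) := hS.to_le inf_le_left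
  have hNsat := normalizerSystem_saturated hS hF hfn hN
  intro x hx
  rw [mem_center_iff_fixes hS hF] at hx
  obtain ⟨hx, h⟩ := hx
  rw [mem_center_iff_fixes hNp hNsat]
  refine ⟨(normalizerIn_thompsonAOf (S := S) hS).ge hx, fun P φ hφ => h P φ ?_⟩
  rw [hN P] at hφ
  exact hφ.1

/-- Glauberman's theorem. -/
theorem thompson_center [Finite S] (p : ℕ) [Fact p.Prime] (hS : IsPGroup p S)
    (F : FusionSystem S) (hF : F.IsSaturated p)
    (N : FusionSystem (normalizerIn S (thompsonSubgroupAOf S)))
    (hN : F.IsNormalizerSystem (thompsonSubgroupAOf S) N) :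
    Subgroup.closure ((fun z : Ω => z ^ p) '' ((S ⊓ Subgroup.centralizer (S : Set Ω) : Subgroup Ω) :
      Set Ω)) ⊓ N.center ≤ F.center ∧
    (p ≠ 2 ∨ F.IsSectionFree p (Equiv.Perm (Fin 4)) → N.center = F.center) := by
  refine ⟨?_, fun h => le_antisymm (fun x hx => ?_) (center_le_normalizer hS hF N hN)⟩
  · rintro x ⟨hxp, hxN⟩
    have hpow : ∀ y ∈ Subgroup.closure ((fun z : Ω => z ^ p) ''
        ((S ⊓ Subgroup.centralizer (S : Set Ω) : Subgroup Ω) : Set Ω)),
        ∃ w ∈ S, (∀ s ∈ S, s * w = w * s) ∧ w ^ p = y := by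
      intro y hy
      induction hy using Subgroup.closure_induction with
      | mem y hy =>
        obtain ⟨w, ⟨hw, hwc⟩, rfl⟩ := hy
        exact ⟨w, hw, Subgroup.mem_centralizer_iff.1 hwc, rfl⟩
      | one => exact ⟨1, one_mem S, fun s _ => by simp, one_pow p⟩
      | mul a b _ _ ha hb =>
        obtain ⟨v, hv, hvc, rfl⟩ := ha
        obtain ⟨w, hw, hwc, rfl⟩ := hb
        exact ⟨v * w, mul_mem hv hw,
          fun s hs => (Commute.mul_right (a := s) (hvc s hs) (hwc s hs)).eq,
          (show Commute v w from hwc v hv).mul_pow p⟩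
      | inv a _ ha =>
        obtain ⟨v, hv, hvc, rfl⟩ := ha
        exact ⟨v⁻¹, inv_mem hv, fun s hs => (Commute.inv_right (a := s) (hvc s hs)).eq, inv_pow v p⟩
    refine le_center_of_normalizer (H := Multiplicative ℤ) hS hF ?_ True
      (fun _ _ _ _ => Or.inr (Or.inl trivial)) N hN hxN fun _ => hpow x hxp
    intro Q _ _ E _ L _ ι hM
    haveI : Finite L := hM.1
    exact not_involves_int
  · rcases h with hp | hfree
    · exact le_center_of_normalizer (H := Multiplicative ℤ) hS hF
        (fun Q _ _ E _ L _ ι hM => by haveI : Finite L := hM.1; exact not_involves_int) False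
        (fun _ _ _ _ => Or.inl hp) N hN hx False.elim
    · exact le_center_of_normalizer hS hF hfree False (fun _ _ _ h => Or.inr (Or.inr h)) N hN hx
        False.elim

end Cfsg.Agent.FusionQd
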