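import Cfsg.Agent.FusionQd.BisetCoset
import Cfsg.Agent.FusionQd.PartialTransfer
import Cfsg.Agent.PGroup.Frattini

/-!
# Thompson transfer for fusion systems
-/

set_option autoImplicit false
set_option linter.all false

open Cfsg Cfsg.FusionSystem Cfsg.Agent.FusionSys Cfsg.Agent.FusionBiset
open Cfsg.Agent.LocalP.Yoshida (cval cval_of_fixed transfer_eq_prod)

namespace Cfsg.Agent.FusionQd

universe u

variable {Ω : Type u} [Group Ω] {S : Subgroup Ω}

theorem isConjElt_trans {F : FusionSystem S} {a b d : Ω} (h₁ : F.IsConjElt a b)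
    (h₂ : F.IsConjElt b d) : F.IsConjElt a d := by
  obtain ⟨φ, hφ, rfl⟩ := h₁
  obtain ⟨ψ, hψ, rfl⟩ := h₂
  have h : ∀ x : Subgroup.zpowers a, φ x ∈ Subgroup.zpowers (φ ⟨a, Subgroup.mem_zpowers a⟩) := by
    rintro ⟨_, n, rfl⟩
    refine ⟨n, ?_⟩
    show (φ ⟨a, Subgroup.mem_zpowers a⟩) ^ n = _
    rw [← map_zpow]
    exact congrArg φ (Subtype.ext rfl)
  exact ⟨_, comp_mem' F (χ := ψ.comp (φ.codRestrict _ h)) hφ hψ h (fun x => rfl), rfl⟩

theorem orderOf_eq_of_isConjElt {F : FusionSystem S} {a b : Ω} (h : F.IsConjElt a b) :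
    orderOf b = orderOf a := by
  obtain ⟨φ, hφ, rfl⟩ := h
  rw [orderOf_injective φ (F.injective_of_mem hφ), ← Subgroup.orderOf_coe]

theorem isConjElt_of_hom {F : FusionSystem S} {P : Subgroup Ω} {φ : P →* Ω} (hφ : φ ∈ F.Hom P)
    (x : P) : F.IsConjElt x (φ x) :=
  ⟨_, restr_mem F (Subgroup.zpowers_le.2 x.2) hφ, congrArg φ (Subtype.ext rfl)⟩

theorem isConjElt_symm {F : FusionSystem S} {a b : Ω} (h : F.IsConjElt a b) : F.IsConjElt b a := by
  obtain ⟨φ, hφ, rfl⟩ := h
  obtain ⟨θ, hθ, he⟩ := F.inv_mem hφ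
  have := isConjElt_of_hom hθ ⟨φ ⟨a, Subgroup.mem_zpowers a⟩, ⟨⟨a, Subgroup.mem_zpowers a⟩, rfl⟩⟩
  rwa [he] at this

theorem mul_conj_of_normalizer {j g : Ω} (hj : orderOf j = 2)
    (hg : g ∈ Subgroup.normalizer ((Subgroup.zpowers j : Subgroup Ω) : Set Ω)) : g * j = j * g := by
  obtain ⟨n, hn⟩ := (Subgroup.mem_normalizer_iff.1 hg j).1 (Subgroup.mem_zpowers j)
  have hn' : j ^ n = g * j * g⁻¹ := hn
  have hj2 : j ^ (2 : ℤ) = 1 := by
    rw [zpow_ofNat, ← hj]
    exact pow_orderOf_eq_one j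
  rcases Int.even_or_odd n with ⟨m, rfl⟩ | ⟨m, rfl⟩
  · exfalso
    rw [← two_mul, zpow_mul, hj2, one_zpow] at hn'
    have : j = 1 := conj_eq_one_iff.1 hn'.symm
    rw [this, orderOf_one] at hj
    omega
  · rw [zpow_add, zpow_mul, hj2, one_zpow, one_mul, zpow_one] at hn'
    exact (eq_mul_inv_iff_mul_eq.1 hn').symm

theorem normalizerIn_zpowers_eq {j : Ω} (hj : orderOf j = 2) :
    normalizerIn S (Subgroup.zpowers j) = centralizerIn S (Subgroup.zpowers j) := by
  refine le_antisymm (fun g hg => mem_centralizerIn.2 ⟨hg.1, ?_⟩)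
    (centralizerIn_le_normalizerIn _)
  rintro _ ⟨n, rfl⟩
  exact ((show Commute g j from mul_conj_of_normalizer hj hg.2).zpow_right n).eq.symm

theorem eq_gen_of_ne_one : ∀ a : Multiplicative (ZMod 2), a ≠ 1 → a = Multiplicative.ofAdd 1 := by decide

theorem orderOf_gen : orderOf (Multiplicative.ofAdd (1 : ZMod 2)) = 2 := by
  rw [orderOf_ofAdd_eq_addOrderOf, ZMod.addOrderOf_one]

/-- If all fully normalized conjugates of an involution avoid a subgroup of index two then the
involution is not hyperfocal. -/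
theorem not_mem_hyperfocal [Finite Ω] (hS : IsPGroup 2 S) (F : FusionSystem S) (hF : F.IsSaturated 2)
    (T : Subgroup Ω) (hTS : T ≤ S) (hT : T.relIndex S = 2) (i : Ω) (hi : i ∈ S)
    (hi2 : orderOf i = 2)
    (h : ∀ j : Ω, F.IsConjElt i j → F.IsFullyNormalized (Subgroup.zpowers j) → j ∉ T) :
    i ∉ F.hyperfocalSubgroup 2 := by
  classical
  intro hhyp
  haveI : Fact (Nat.Prime 2) := ⟨Nat.prime_two⟩
  -- a conjugate with largest normalizer
  have hrefl : F.IsConjElt i i := isConjElt_of_hom (subtype_mem F (Subgroup.zpowers_le.2 hi))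
    ⟨i, Subgroup.mem_zpowers i⟩
  obtain ⟨j0, hj0, hmax⟩ := Set.exists_max_image {j : Ω | F.IsConjElt i j}
    (fun j => Nat.card (normalizerIn S (Subgroup.zpowers j))) (Set.toFinite _) ⟨i, hrefl⟩
  have hmem : ∀ {a b : Ω}, F.IsConjElt a b → b ∈ S := by
    rintro a _ ⟨φ, hφ, rfl⟩
    exact map_mem_S F hφ _
  have hfn : ∀ j, F.IsConjElt i j →
      Nat.card (normalizerIn S (Subgroup.zpowers j0)) ≤ Nat.card (normalizerIn S (Subgroup.zpowers j)) →
      F.IsFullyNormalized (Subgroup.zpowers j) := by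
    intro j hj hle
    refine ⟨Subgroup.zpowers_le.2 (hmem hj), ?_⟩
    rintro _ ⟨φ, hφ, rfl⟩
    have hr : φ.range = Subgroup.zpowers (φ ⟨j, Subgroup.mem_zpowers j⟩) := by
      refine le_antisymm ?_ (Subgroup.zpowers_le.2 ⟨_, rfl⟩)
      rintro _ ⟨⟨_, n, rfl⟩, rfl⟩
      refine ⟨n, ?_⟩
      show (φ ⟨j, Subgroup.mem_zpowers j⟩) ^ n = _
      rw [← map_zpow]
      exact congrArg φ (Subtype.ext rfl)
    rw [hr]
    exact (hmax _ (isConjElt_trans hj ⟨φ, hφ, rfl⟩)).trans hle
  have hj0T : j0 ∉ T := h j0 hj0 (hfn j0 hj0 le_rfl)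
  have hj0S := hmem hj0
  -- the focal subgroup contains `j0`
  have hj0f : j0 ∈ F.focalSubgroup := by
    have h1 : i ∈ F.focalSubgroup := by
      refine (Subgroup.closure_le _).2 ?_ hhyp
      rintro _ ⟨P, α, x, hP, -, rfl⟩
      exact Subgroup.subset_closure ⟨P, _, x, autGroup_mem_hom F hP α.2, rfl⟩
    obtain ⟨φ, hφ, he⟩ := hj0
    have h2 : i⁻¹ * φ ⟨i, Subgroup.mem_zpowers i⟩ ∈ F.focalSubgroup :=
      Subgroup.subset_closure ⟨_, φ, ⟨i, Subgroup.mem_zpowers i⟩, hφ, rfl⟩
    have := mul_mem h1 h2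
    rwa [mul_inv_cancel_left, he] at this
  -- the character
  set T₀ := T.subgroupOf S with hT₀
  have hidx : T₀.index = 2 := hT
  haveI : T₀.Normal := Subgroup.normal_of_index_eq_two hidx
  set χ : S →* Multiplicative (ZMod 2) := (mulEquivOfPrimeCardEq (p := 2)
    (show Nat.card (S ⧸ T₀) = 2 from hidx) (show Nat.card (Multiplicative (ZMod 2)) = 2 by simp)).toMonoidHom.comp
      (QuotientGroup.mk' T₀) with hχdef
  have hχ : ∀ s : S, χ s = 1 ↔ (s : Ω) ∈ T := fun s => by
    simp [hχdef, hT₀, Subgroup.mem_subgroupOf]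
  obtain ⟨c, hc, hd, hst, hn⟩ := exists_characteristic hS hF
  set H := baseStab c hd
  set θ := χ.comp (rightVal hc hd)
  haveI := Fintype.ofFinite (parkGroup c ⧸ H)
  set x := parkHom c ⟨j0, hj0S⟩ with hx
  have hxo : orderOf x = 2 ^ 1 := by
    rw [pow_one, hx, orderOf_injective _ (parkHom_injective c hd), Subgroup.orderOf_mk,
      orderOf_eq_of_isConjElt hj0, hi2]
  have htr : MonoidHom.transfer θ x = 1 := transfer_kills_focal hc hd hst θ ⟨j0, hj0S⟩ hj0f
  set Fx : Finset (parkGroup c ⧸ H) := Finset.univ.filter fun q => x • q = q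
  set Mv : Finset (parkGroup c ⧸ H) := Finset.univ.filter fun q => ¬ x • q = q
  have hMv : ∏ q ∈ Mv, cval θ x q = 1 := by
    by_contra hne
    obtain ⟨q, hq, hqf⟩ := exists_fixed_of_prod_ne_one_of_conj θ hxo (fun a m hu j hj ho => by
      obtain rfl : j = 0 := by omega
      rw [pow_zero, orderOf_eq_one_iff] at ho
      rw [show (⟨_, hu⟩ : H) = 1 from Subtype.ext ho, map_one]) (fun q hq => by
      simp only [Mv, Finset.mem_filter, Finset.mem_univ, true_and] at hq ⊢
      rwa [smul_left_cancel_iff]) hne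
    exact (Finset.mem_filter.1 hq).2 hqf
  let val : parkGroup c ⧸ H → S := fun q =>
    if hm : q.out⁻¹ * (x * q.out) ∈ H then rightVal hc hd ⟨_, hm⟩ else 1
  have hval : ∀ q ∈ Fx, cval θ x q = χ (val q) := fun q hq => by
    have hf := (Finset.mem_filter.1 hq).2
    rw [cval_of_fixed θ hf (fixed_iff.1 hf)]
    show θ _ = χ (dite _ _ _)
    rw [dif_pos (fixed_iff.1 hf)]
    rfl
  -- the fixed cosets with value in `T`
  set FT := Fx.filter fun q => (val q : Ω) ∈ T
  set iS : S := ⟨j0, hj0S⟩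
  set A : Set (Space c) := {y | ∃ u : S, (u : Ω) ∈ T ∧ ((iS, u) : S × S) • y = y}
  have hcard : Nat.card A = FT.card * Nat.card S := by
    rw [← Nat.card_eq_finsetCard, ← Nat.card_prod]
    have hstab : ∀ (q : parkGroup c ⧸ H) (u : S) (hm : q.out⁻¹ * (x * q.out) ∈ H),
        ((iS, u * rightVal hc hd ⟨_, hm⟩ * u⁻¹) : S × S) • (((1 : S), u) • pointOf c hd q.out) =
          ((1 : S), u) • pointOf c hd q.out := by
      intro q u hm
      conv_rhs => rw [← stab_of_mem hc hd q.out iS hm, smul_smul]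
      rw [smul_smul]
      simp [mul_assoc]
      rfl
    refine (Nat.card_congr (Equiv.ofBijective
      (fun w : {q // q ∈ FT} × S => (⟨((1 : S), w.2) • pointOf c hd w.1.1.out, by
        have hq := Finset.mem_filter.1 w.1.2
        have hm : w.1.1.out⁻¹ * (x * w.1.1.out) ∈ H := fixed_iff.1 (Finset.mem_filter.1 hq.1).2
        refine ⟨_, ?_, hstab w.1.1 w.2 hm⟩
        have h1 : (val w.1.1 : Ω) ∈ T := hq.2
        simp only [val, dif_pos hm] at h1
        exact (inferInstance : T₀.Normal).conj_mem _ h1 w.2⟩ : A)) ⟨?_, ?_⟩)).symm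
    · rintro ⟨⟨q, hq⟩, u⟩ ⟨⟨q', hq'⟩, u'⟩ he
      have he' : ((1 : S), u) • pointOf c hd q.out = ((1 : S), u') • pointOf c hd q'.out :=
        congrArg Subtype.val he
      have hqq : q = q' := by
        rw [← QuotientGroup.out_eq' q, ← QuotientGroup.out_eq' q']
        refine rmk_pointOf_eq ((rmk_eq_iff c).2 ⟨u⁻¹ * u', ?_⟩)
        have := congrArg (fun z => ((1 : S), u⁻¹) • z) he'
        simp only [smul_smul, Prod.mk_mul_mk, one_mul, inv_mul_cancel, ← Prod.one_eq_mk,
          one_smul] at this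
        exact this.symm
      subst hqq
      rw [right_cancel hc he']
    · rintro ⟨y, u', hu', hy⟩
      obtain ⟨q, u, rfl⟩ := exists_pointOf hc hd y
      have hq : x • q = q := by
        refine fixed_iff.2 (MulAction.mem_stabilizer_iff.2 ?_)
        rw [mul_smul, mul_smul, inv_smul_eq_iff, smul_rmk c q.out, smul_rmk]
        refine (rmk_eq_iff c).2 ⟨u⁻¹ * u'⁻¹ * u, ?_⟩
        show ((1 : S), u⁻¹ * u'⁻¹ * u) • pointOf c hd q.out = ((iS, 1) : S × S) • pointOf c hd q.out
        have h2 := congrArg (fun z => ((1 : S), u⁻¹ * u'⁻¹) • z) hy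
        simp only [smul_smul, Prod.mk_mul_mk, one_mul, mul_assoc, inv_mul_cancel_left,
          inv_mul_cancel, mul_one] at h2
        rw [mul_assoc]
        exact h2.symm
      have hm := fixed_iff.1 hq
      have heq : u' = u * rightVal hc hd ⟨_, hm⟩ * u⁻¹ := by
        refine right_cancel hc (y := ((iS, 1) : S × S) • (((1 : S), u) • pointOf c hd q.out)) ?_
        rw [smul_smul ((1 : S), u'), smul_smul ((1 : S), _ * _ * u⁻¹)]
        simp only [Prod.mk_mul_mk, one_mul, mul_one]
        rw [hy, hstab q u hm]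
      refine ⟨(⟨q, Finset.mem_filter.2 ⟨Finset.mem_filter.2 ⟨Finset.mem_univ _, hq⟩, ?_⟩⟩, u), rfl⟩
      show ((dite _ _ _ : S) : Ω) ∈ T
      rw [dif_pos hm]
      rw [heq] at hu'
      have := (inferInstance : T₀.Normal).conj_mem (u * rightVal hc hd ⟨_, hm⟩ * u⁻¹) hu' u⁻¹
      exact Subgroup.mem_subgroupOf.1 (show _ ∈ T₀ by simpa [mul_assoc] using this)
  -- their number is even
  have heven : 2 ∣ FT.card := by
    set C := centralizerIn S (Subgroup.zpowers j0)
    have hCS : C ≤ S := centralizerIn_le _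
    let f : C × S →* S × S := (Subgroup.inclusion hCS).prodMap (MonoidHom.id S)
    have hinv : ∀ (g : C × S) (y : A), f g • (y : Space c) ∈ A := by
      rintro g ⟨y, u, hu, hy⟩
      refine ⟨g.2 * u * g.2⁻¹, (inferInstance : T₀.Normal).conj_mem u hu g.2, ?_⟩
      have hcomm : iS * Subgroup.inclusion hCS g.1 = Subgroup.inclusion hCS g.1 * iS :=
        Subtype.ext ((mem_centralizerIn.1 g.1.2).2 j0 (Subgroup.mem_zpowers j0))
      refine Eq.trans ?_ (congrArg (f g • ·) hy)
      show _ = f g • ((iS, u) : S × S) • y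
      rw [smul_smul, smul_smul]
      show ((iS * Subgroup.inclusion hCS g.1, g.2 * u * g.2⁻¹ * g.2) : S × S) • y =
        ((Subgroup.inclusion hCS g.1 * iS, g.2 * u) : S × S) • y
      rw [hcomm, inv_mul_cancel_right]
    letI : MulAction (C × S) A :=
      { smul := fun g y => ⟨f g • (y : Space c), hinv g y⟩
        one_smul := fun y => Subtype.ext (by show f 1 • (y : Space c) = y; rw [map_one, one_smul])
        mul_smul := fun g k y => Subtype.ext (by
          show f (g * k) • (y : Space c) = f g • f k • (y : Space c)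
          rw [map_mul, mul_smul]) }
    have horb : ∀ y : A, 2 * Nat.card S ∣ Nat.card (MulAction.orbit (C × S) y) := by
      rintro ⟨y, u, hu, hy⟩
      obtain ⟨P, ψ, hψ, he⟩ := isTw_stabilizer hc y
      obtain ⟨xu, hxu1, hxu2⟩ := mem_twd.1 (he ▸ MulAction.mem_stabilizer_iff.2 hy)
      have hju : F.IsConjElt i u := by
        have h1 := isConjElt_of_hom hψ xu
        rw [hxu1, hxu2] at h1
        exact isConjElt_trans hj0 (isConjElt_symm h1)
      set Y : A := ⟨y, u, hu, hy⟩
      set St := MulAction.stabilizer (C × S) Y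
      set Cu := centralizerIn S (Subgroup.zpowers (u : Ω))
      have hin : ∀ g : St, ((g : C × S).2 : Ω) ∈ Cu := by
        intro g
        obtain ⟨z, hz1, hz2⟩ := mem_twd.1 (he ▸ MulAction.mem_stabilizer_iff.2
          (show f (g : C × S) • y = y from congrArg Subtype.val (MulAction.mem_stabilizer_iff.1 g.2)))
        refine mem_centralizerIn.2 ⟨(g : C × S).2.2, ?_⟩
        rintro _ ⟨n, rfl⟩
        refine (Commute.zpow_left ?_ n).eq
        show (u : Ω) * ((g : C × S).2 : Ω) = ((g : C × S).2 : Ω) * (u : Ω)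
        rw [← hxu2, show ((g : C × S).2 : Ω) = z from hz2.symm]
        refine congrArg Subtype.val (F.injective_of_mem hψ (?_ : ψ (xu * z) = ψ (z * xu)))
        rw [map_mul, map_mul, hxu1, hz1]
        exact (mem_centralizerIn.1 (g : C × S).1.2).2 j0 (Subgroup.mem_zpowers j0)
      have hle : Nat.card St ≤ Nat.card Cu := by
        refine Nat.card_le_card_of_injective (fun g => (⟨_, hin g⟩ : Cu)) fun g k hgk => ?_
        have h2 : (g : C × S).2 = (k : C × S).2 := Subtype.ext (congrArg Subtype.val hgk :)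
        obtain ⟨z, hz1, hz2⟩ := mem_twd.1 (he ▸ MulAction.mem_stabilizer_iff.2
          (show f (g : C × S) • y = y from congrArg Subtype.val (MulAction.mem_stabilizer_iff.1 g.2)))
        obtain ⟨z', hz1', hz2'⟩ := mem_twd.1 (he ▸ MulAction.mem_stabilizer_iff.2
          (show f (k : C × S) • y = y from congrArg Subtype.val (MulAction.mem_stabilizer_iff.1 k.2)))
        have hzz : z = z' := Subtype.ext ((hz2.trans (congrArg Subtype.val h2)).trans hz2'.symm)
        refine Subtype.ext (Prod.ext (Subtype.ext ?_) h2)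
        subst hzz
        exact hz1.symm.trans hz1'
      have hlt : Nat.card Cu < Nat.card C := by
        rw [show Cu = normalizerIn S (Subgroup.zpowers (u : Ω)) from
            (normalizerIn_zpowers_eq ((orderOf_eq_of_isConjElt hju).trans hi2)).symm,
          show C = normalizerIn S (Subgroup.zpowers j0) from
            (normalizerIn_zpowers_eq ((orderOf_eq_of_isConjElt hj0).trans hi2)).symm]
        exact lt_of_not_ge fun hge => h _ hju (hfn _ hju hge) hu
      obtain ⟨nc, hnc⟩ := (hS.to_le hCS).exists_card_eq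
      obtain ⟨ns, hns⟩ := hS.exists_card_eq
      have htot : Nat.card (MulAction.orbit (C × S) Y) * Nat.card St = Nat.card C * Nat.card S := by
        rw [← Nat.card_prod, Nat.card_congr (MulAction.orbitProdStabilizerEquivGroup (C × S) Y),
          Nat.card_prod]
      obtain ⟨a, -, ha⟩ := (Nat.dvd_prime_pow Nat.prime_two).1
        (show Nat.card St ∣ 2 ^ (nc + ns) by rw [pow_add, ← hnc, ← hns, ← htot]; exact dvd_mul_left _ _)
      have hac : a < nc := (Nat.pow_lt_pow_iff_right (le_refl 2)).1 (by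
        rw [← ha, ← hnc]; exact hle.trans_lt hlt)
      refine ⟨2 ^ (nc - a - 1), Nat.eq_of_mul_eq_mul_right (Nat.two_pow_pos a) ?_⟩
      rw [← ha, htot, hnc, ha]
      have : 2 ^ nc = 2 * 2 ^ (nc - a - 1) * 2 ^ a := by
        rw [← pow_succ', ← pow_add]; congr 1; omega
      rw [this]; ring
    haveI := Fintype.ofFinite (Quotient (MulAction.orbitRel (C × S) A))
    have hdvd : 2 * Nat.card S ∣ Nat.card A := by
      rw [Nat.card_congr (MulAction.selfEquivSigmaOrbits (C × S) A), Nat.card_sigma]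
      exact Finset.dvd_sum fun o _ => horb _
    rw [hcard] at hdvd
    exact Nat.dvd_of_mul_dvd_mul_right Nat.card_pos hdvd
  -- the number of fixed cosets is odd
  have hodd : ¬ 2 ∣ Fx.card := by
    have hp : IsPGroup 2 (Subgroup.zpowers x) :=
      IsPGroup.of_card (n := 1) (by rw [Nat.card_zpowers, hxo])
    have hmod := hp.card_modEq_card_fixedPoints (parkGroup c ⧸ H)
    have heq : Nat.card (MulAction.fixedPoints (Subgroup.zpowers x) (parkGroup c ⧸ H)) = Fx.card := by
      rw [← Nat.card_eq_finsetCard]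
      refine Nat.card_congr (Equiv.subtypeEquivRight fun q => ?_)
      simp only [MulAction.mem_fixedPoints, Fx, Finset.mem_filter, Finset.mem_univ, true_and]
      refine ⟨fun hq => hq ⟨x, Subgroup.mem_zpowers x⟩, fun hq => ?_⟩
      rintro ⟨g, hg⟩
      exact MulAction.mem_stabilizer_iff.1 (Subgroup.zpowers_le.2
        (MulAction.mem_stabilizer_iff.2 hq) hg)
    intro h2
    apply index_coprime hc hd hn
    rw [heq, ← Subgroup.index] at hmod
    exact (Nat.modEq_zero_iff_dvd).1 (hmod.trans (Nat.modEq_zero_iff_dvd.2 h2))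
  rw [transfer_eq_prod, ← Finset.prod_filter_mul_prod_filter_not Finset.univ (fun q => x • q = q),
    show (∏ q ∈ Finset.univ.filter (fun q => ¬ x • q = q), cval θ x q) = 1 from hMv, mul_one,
    Finset.prod_congr rfl hval, ← Finset.prod_filter_mul_prod_filter_not Fx (fun q => (val q : Ω) ∈ T),
    Finset.prod_eq_one (fun q hq => (hχ _).2 (Finset.mem_filter.1 hq).2), one_mul] at htr
  rw [Finset.prod_congr rfl (fun q (hq : q ∈ Fx.filter fun q => ¬ (val q : Ω) ∈ T) => eq_gen_of_ne_one _ (fun h1 => (Finset.mem_filter.1 hq).2 ((hχ _).1 h1))),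
    Finset.prod_const] at htr
  have hsum : FT.card + (Fx.filter fun q => ¬ (val q : Ω) ∈ T).card = Fx.card :=
    Finset.card_filter_add_card_filter_not _
  have h2 : 2 ∣ (Fx.filter fun q => ¬ (val q : Ω) ∈ T).card := by
    have := orderOf_dvd_of_pow_eq_one htr
    rwa [orderOf_gen] at this
  exact hodd (hsum ▸ Nat.dvd_add heven h2)

end Cfsg.Agent.FusionQd
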